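import Mathlib.AlgebraicGeometry.Morphisms.Etale
import Mathlib.RingTheory.Unramified.Locus
import Mathlib.RingTheory.Etale.Locus
import Mathlib.RingTheory.Flat.Localization

set_option autoImplicit false

open CategoryTheory AlgebraicGeometry

universe u

namespace Groth.Agent.Unram

variable {X Y : Scheme.{u}}

lemma smooth_nhd_iff (f : X ⟶ Y) [LocallyOfFinitePresentation f] (x : X) :
    (∃ U : X.Opens, x ∈ U ∧ Smooth (U.ι ≫ f)) ↔ x ∈ f.smoothLocus := by
  constructor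
  · rintro ⟨U, hxU, hU⟩
    have h : U.ι ⁻¹ᵁ f.smoothLocus = ⊤ := by
      rw [Scheme.Hom.preimage_smoothLocus_eq, Scheme.Hom.smoothLocus_eq_top]
    exact h.ge (TopologicalSpace.Opens.mem_top (⟨x, hxU⟩ : U))
  · intro hx
    refine ⟨f.smoothLocus, hx, ?_⟩
    rw [← Scheme.Hom.smoothLocus_eq_top_iff, ← Scheme.Hom.preimage_smoothLocus_eq,
      Scheme.Opens.ι_preimage_self]

lemma formallyUnramified_stalkMap_iff {f : X ⟶ Y} {x : X} (U : Y.Opens)
    (hU : IsAffineOpen U) (V : X.Opens) (hV : IsAffineOpen V) (hVU : V ≤ f ⁻¹ᵁ U) (hx : x ∈ V) :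
    letI := (f.appLE U V hVU).hom.toAlgebra
    (f.stalkMap x).hom.FormallyUnramified ↔
      hV.primeIdealOf ⟨x, hx⟩ ∈ Algebra.unramifiedLocus Γ(Y, U) Γ(X, V) := by
  let := (f.appLE U V hVU).hom.toAlgebra
  let p := (hU.primeIdealOf ⟨f x, hVU hx⟩).asIdeal
  let q := (hV.primeIdealOf ⟨x, hx⟩).asIdeal
  have : q.LiesOver p :=
    ⟨congr($(IsAffineOpen.comap_primeIdealOf_appLE U hU V hV hVU hx).1).symm⟩
  let := Localization.AtPrime.algebraOfLiesOver p q
  trans Algebra.FormallyUnramified (Localization.AtPrime p) (Localization.AtPrime q)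
  · rw [← RingHom.formallyUnramified_algebraMap]
    exact RingHom.FormallyUnramified.respectsIso.arrow_mk_iso_iff
      (IsAffineOpen.arrowStalkMapIso f U hU V hV hVU hx)
  · exact ⟨fun _ => Algebra.FormallyUnramified.comp _ (Localization.AtPrime p) _,
      fun (h : Algebra.IsUnramifiedAt Γ(Y, U) q) => @Algebra.FormallyUnramified.of_restrictScalars Γ(Y, U) _ (Localization.AtPrime p) _ _ (Localization.AtPrime q) _ _ _ _ h⟩

lemma flat_stalkMap_iff {f : X ⟶ Y} {x : X} (U : Y.Opens)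
    (hU : IsAffineOpen U) (V : X.Opens) (hV : IsAffineOpen V) (hVU : V ≤ f ⁻¹ᵁ U) (hx : x ∈ V) :
    letI := (f.appLE U V hVU).hom.toAlgebra
    (f.stalkMap x).hom.Flat ↔
      Module.Flat Γ(Y, U) (Localization.AtPrime (hV.primeIdealOf ⟨x, hx⟩).asIdeal) := by
  let := (f.appLE U V hVU).hom.toAlgebra
  let p := (hU.primeIdealOf ⟨f x, hVU hx⟩).asIdeal
  let q := (hV.primeIdealOf ⟨x, hx⟩).asIdeal
  have : q.LiesOver p :=
    ⟨congr($(IsAffineOpen.comap_primeIdealOf_appLE U hU V hV hVU hx).1).symm⟩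
  let := Localization.AtPrime.algebraOfLiesOver p q
  trans Module.Flat (Localization.AtPrime p) (Localization.AtPrime q)
  · rw [← RingHom.flat_algebraMap_iff]
    exact RingHom.Flat.respectsIso.arrow_mk_iso_iff
      (IsAffineOpen.arrowStalkMapIso f U hU V hV hVU hx)
  · exact Module.flat_iff_of_isLocalization (Localization.AtPrime p) p.primeCompl _

lemma exists_chart (f : X ⟶ Y) (x : X) :
    ∃ (U : Y.Opens) (_ : IsAffineOpen U) (V : X.Opens) (_ : IsAffineOpen V) (_ : V ≤ f ⁻¹ᵁ U),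
      x ∈ V := by
  obtain ⟨_, ⟨U, hU, rfl⟩, hxU, -⟩ :=
    Y.isBasis_affineOpens.exists_subset_of_mem_open (Set.mem_univ (f x)) isOpen_univ
  obtain ⟨_, ⟨V, hV, rfl⟩, hxV, hVU⟩ :=
    X.isBasis_affineOpens.exists_subset_of_mem_open hxU (U.2.preimage f.continuous)
  exact ⟨U, hU, V, hV, hVU, hxV⟩

lemma isOpen_unramified_stalkMap (f : X ⟶ Y) [LocallyOfFiniteType f] :
    IsOpen {x | (f.stalkMap x).hom.FormallyUnramified} := by
  refine isOpen_iff_forall_mem_open.mpr fun x hx => ?_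
  obtain ⟨U, hU, V, hV, hVU, hxV⟩ := exists_chart f x
  have := f.finiteType_appLE hU hV hVU
  algebraize [(f.appLE U V hVU).hom]
  let W : Set X := Subtype.val '' (hV.primeIdealOf ⁻¹' Algebra.unramifiedLocus Γ(Y, U) Γ(X, V))
  refine ⟨W, ?_, V.2.isOpenMap_subtype_val _ (Algebra.isOpen_unramifiedLocus.preimage ?_),
    ⟨⟨x, hxV⟩, (formallyUnramified_stalkMap_iff U hU V hV hVU hxV).mp hx, rfl⟩⟩
  · rintro _ ⟨⟨y, hy⟩, hyU, rfl⟩
    exact (formallyUnramified_stalkMap_iff U hU V hV hVU hy).mpr hyU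
  · exact hV.isoSpec.hom.continuous

lemma formallyUnramified_iff_stalkMap (f : X ⟶ Y) :
    FormallyUnramified f ↔ ∀ x, (f.stalkMap x).hom.FormallyUnramified :=
  ⟨fun _ x => FormallyUnramified.stalkMap f x,
    HasRingHomProperty.of_stalkMap RingHom.FormallyUnramified.ofLocalizationPrime⟩

lemma stalkMap_ι_comp_iff {P : ∀ {R S : Type u} [CommRing R] [CommRing S], (R →+* S) → Prop}
    (hP : RingHom.RespectsIso P) (f : X ⟶ Y) (U : X.Opens) (y : U.toScheme) :
    P ((U.ι ≫ f).stalkMap y).hom ↔ P (f.stalkMap (U.ι y)).hom := by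
  refine Iff.trans ?_ (hP.cancel_right_isIso _ (U.ι.stalkMap y))
  rw [← CommRingCat.hom_comp, ← Scheme.Hom.stalkMap_comp]
  rfl

lemma unramified_nhd_iff (f : X ⟶ Y) [LocallyOfFiniteType f] (x : X) :
    (∃ U : X.Opens, x ∈ U ∧ FormallyUnramified (U.ι ≫ f)) ↔
      (f.stalkMap x).hom.FormallyUnramified := by
  constructor
  · rintro ⟨U, hxU, hU⟩
    exact (stalkMap_ι_comp_iff RingHom.FormallyUnramified.respectsIso f U ⟨x, hxU⟩).mp
      (FormallyUnramified.stalkMap _ _)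
  · intro hx
    refine ⟨⟨_, isOpen_unramified_stalkMap f⟩, hx, ?_⟩
    rw [formallyUnramified_iff_stalkMap]
    intro y
    exact (stalkMap_ι_comp_iff RingHom.FormallyUnramified.respectsIso f _ y).mpr y.2

lemma etale_of_smooth_of_formallyUnramified (f : X ⟶ Y) [Smooth f] [FormallyUnramified f] :
    Etale f := by
  rw [HasRingHomProperty.iff_appLE (P := @Etale)]
  intro U V e
  refine (RingHom.etale_iff_formallyUnramified_and_smooth (f := (f.appLE U.1 V.1 e).hom)).mpr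
    ⟨HasRingHomProperty.appLE (P := @FormallyUnramified) f inferInstance U V e,
      HasRingHomProperty.appLE (P := @Smooth) f inferInstance U V e⟩

lemma etale_nhd_iff (f : X ⟶ Y) [LocallyOfFinitePresentation f] (x : X) :
    (∃ U : X.Opens, x ∈ U ∧ Etale (U.ι ≫ f)) ↔
      x ∈ f.smoothLocus ∧ (f.stalkMap x).hom.FormallyUnramified := by
  constructor
  · rintro ⟨U, hxU, hU⟩
    exact ⟨(smooth_nhd_iff f x).mp ⟨U, hxU, inferInstance⟩,
      (unramified_nhd_iff f x).mp ⟨U, hxU, inferInstance⟩⟩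
  · rintro ⟨h₁, h₂⟩
    let W : X.Opens := f.smoothLocus ⊓ ⟨_, isOpen_unramified_stalkMap f⟩
    refine ⟨W, ⟨h₁, h₂⟩, ?_⟩
    have : Smooth (W.ι ≫ f) := by
      rw [← Scheme.Hom.smoothLocus_eq_top_iff, ← Scheme.Hom.preimage_smoothLocus_eq, ← top_le_iff]
      exact fun y _ => y.2.1
    have : FormallyUnramified (W.ι ≫ f) := (formallyUnramified_iff_stalkMap _).mpr fun y =>
      (stalkMap_ι_comp_iff RingHom.FormallyUnramified.respectsIso f _ y).mpr y.2.2
    exact etale_of_smooth_of_formallyUnramified _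

lemma etale_nhd_iff_isEtaleAt (f : X ⟶ Y) [LocallyOfFinitePresentation f] {x : X} (U : Y.Opens)
    (hU : IsAffineOpen U) (V : X.Opens) (hV : IsAffineOpen V) (hVU : V ≤ f ⁻¹ᵁ U) (hx : x ∈ V) :
    letI := (f.appLE U V hVU).hom.toAlgebra
    (∃ W : X.Opens, x ∈ W ∧ Etale (W.ι ≫ f)) ↔
      Algebra.IsEtaleAt Γ(Y, U) (hV.primeIdealOf ⟨x, hx⟩).asIdeal := by
  let := (f.appLE U V hVU).hom.toAlgebra
  rw [etale_nhd_iff, Scheme.Hom.mem_smoothLocus, formallySmooth_stalkMap_iff U hU V hV hVU hx,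
    formallyUnramified_stalkMap_iff U hU V hV hVU hx, and_comm]
  exact (Algebra.FormallyEtale.iff_formallyUnramified_and_formallySmooth).symm

end Groth.Agent.Unram
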