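import Mathlib.RingTheory.Etale.Descent
import Mathlib.RingTheory.Etale.Locus
import Mathlib.RingTheory.Unramified.LocalRing
import Mathlib.RingTheory.Unramified.LocalStructure
import Mathlib.RingTheory.Extension.Cotangent.BaseChange
import Mathlib.RingTheory.LocalRing.Module
import Mathlib.RingTheory.Flat.FaithfullyFlat.Algebra
import Mathlib.RingTheory.Flat.Localization

set_option autoImplicit false

open scoped TensorProduct
open IsLocalRing

universe u

namespace Groth.Agent.Unram

variable {A B C : Type u} [CommRing A] [CommRing B] [CommRing C] [Algebra A B]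

lemma flat_of_flat_faithfullyFlat (B' C' : Type u) [CommRing B'] [CommRing C'] [Algebra A B']
    [Algebra A C'] [Algebra B' C'] [IsScalarTower A B' C'] [Module.FaithfullyFlat B' C']
    [Module.Flat A C'] : Module.Flat A B' := by
  rw [Module.Flat.iff_rTensor_injective']
  intro J
  rw [injective_iff_map_eq_zero]
  intro z hz
  have hC : Function.Injective (J.subtype.rTensor C') :=
    Module.Flat.iff_rTensor_injective'.mp ‹Module.Flat A C'› J
  let ι : B' →ₗ[A] C' := (IsScalarTower.toAlgHom A B' C').toLinearMap
  have h0 : LinearMap.lTensor J ι z = 0 := by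
    apply hC
    rw [← LinearMap.comp_apply, LinearMap.rTensor_comp_lTensor, ← LinearMap.lTensor_comp_rTensor,
      LinearMap.comp_apply, hz, map_zero, map_zero]
  let e := TensorProduct.comm A J B'
  apply e.injective
  rw [map_zero]
  apply Module.FaithfullyFlat.tensorProduct_mk_injective (A := B') (B := C') (M := B' ⊗[A] J)
  rw [map_zero]
  apply (TensorProduct.AlgebraTensorModule.cancelBaseChange A B' C' C' J).injective
  rw [map_zero]
  have key : ∀ z : J ⊗[A] B', TensorProduct.AlgebraTensorModule.cancelBaseChange A B' C' C' J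
      ((TensorProduct.mk B' C' (B' ⊗[A] J) 1) (TensorProduct.comm A J B' z)) =
      TensorProduct.comm A J C' (LinearMap.lTensor J ι z) := by
    intro z
    induction z using TensorProduct.induction_on with
    | zero => simp
    | add x y hx hy => simp only [map_add, hx, hy]
    | tmul j b => simp [ι, Algebra.smul_def]
  exact (key z).trans (by rw [h0, map_zero])

section Local

variable (p : Ideal B) [p.IsPrime]

lemma flat_of_flat_of_isUnramifiedAt [Algebra.FiniteType A B] [Algebra.IsUnramifiedAt A p]
    (M : Type u) [AddCommGroup M] [Module A M] [Module B M] [IsScalarTower A B M]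
    [Module (Localization.AtPrime p) M] [IsScalarTower B (Localization.AtPrime p) M]
    [Module.Flat A M] : Module.Flat B M := by
  have : IsScalarTower A (Localization.AtPrime p) M := .to₁₃₄ A B _ M
  have : Algebra.EssFiniteType B (Localization.AtPrime p) := .of_isLocalization _ p.primeCompl
  have : Algebra.EssFiniteType A (Localization.AtPrime p) := .comp A B _
  have : Module.Flat (Localization.AtPrime p) M :=
    Algebra.FormallyUnramified.flat_of_restrictScalars A (Localization.AtPrime p) M
  exact (Module.flat_iff_of_isLocalization (Localization.AtPrime p) p.primeCompl M).mp this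

lemma isEtaleAt_of_flat_of_isUnramifiedAt [Algebra.FinitePresentation A B]
    [Algebra.IsUnramifiedAt A p] [Module.Flat A (Localization.AtPrime p)] :
    Algebra.IsEtaleAt A p := by
  obtain ⟨f, hf, P, φ, hφ⟩ :=
    Algebra.IsUnramifiedAt.exists_hasStandardEtaleSurjectionOn (R := A) p
  have : Algebra.FinitePresentation B (Localization.Away f) :=
    IsLocalization.Away.finitePresentation f
  have : Algebra.FinitePresentation A (Localization.Away f) := .trans A B _
  have hdisj : Disjoint (Submonoid.powers f : Set B) p :=
    (Ideal.disjoint_powers_iff_notMem_of_isPrime _).mpr hf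
  let Q : Ideal (Localization.Away f) := p.map (algebraMap B (Localization.Away f))
  have : Q.IsPrime := IsLocalization.isPrime_of_isPrime_disjoint (.powers f) _ _ ‹_› hdisj
  have hQp : Q.comap (algebraMap B (Localization.Away f)) = p :=
    IsLocalization.under_map_of_isPrime_disjoint (.powers f) _ ‹_› hdisj
  algebraize [φ.toRingHom]
  have : IsScalarTower A P.Ring (Localization.Away f) :=
    IsScalarTower.of_algebraMap_eq fun a => (φ.commutes a).symm
  let LQ := Localization.AtPrime Q
  have : IsLocalization.AtPrime LQ p := by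
    have h := IsLocalization.isLocalization_isLocalization_atPrime_isLocalization
      (R := B) (Submonoid.powers f) LQ Q
    change IsLocalization (p.primeCompl) LQ
    convert h using 1
    ext x
    simp only [Ideal.mem_primeCompl_iff]
    rw [← hQp]
  have : Module.Flat A LQ := Module.Flat.of_linearEquiv
    ((IsLocalization.algEquiv p.primeCompl LQ (Localization.AtPrime p)).toLinearEquiv.restrictScalars A)
  let Qp : Ideal P.Ring := Q.comap φ.toRingHom
  have : Q.LiesOver Qp := ⟨rfl⟩
  let := Localization.AtPrime.algebraOfLiesOver Qp Q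
  have hflat : Module.Flat (Localization.AtPrime Qp) LQ := by
    rw [Module.flat_iff_of_isLocalization (Localization.AtPrime Qp) Qp.primeCompl]
    exact Algebra.FormallyUnramified.flat_of_restrictScalars A P.Ring LQ
  have : Module.FaithfullyFlat (Localization.AtPrime Qp) LQ :=
    Module.FaithfullyFlat.of_flat_of_isLocalHom
  obtain ⟨s, hs⟩ := Algebra.FinitePresentation.ker_fG_of_surjective φ hφ
  have hker : ∀ x ∈ s, ∃ t ∈ Qp.primeCompl, t * x = 0 := by
    intro x hx
    have hx0 : φ x = 0 := RingHom.mem_ker.mp (hs ▸ Ideal.subset_span hx)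
    have : algebraMap P.Ring (Localization.AtPrime Qp) x = 0 := by
      apply FaithfulSMul.algebraMap_injective (Localization.AtPrime Qp) LQ
      rw [map_zero, ← IsScalarTower.algebraMap_apply, IsScalarTower.algebraMap_apply P.Ring
        (Localization.Away f) LQ]
      exact (congrArg _ hx0).trans (map_zero _)
    obtain ⟨t, ht⟩ := (IsLocalization.map_eq_zero_iff Qp.primeCompl _ x).mp this
    exact ⟨t, t.2, ht⟩
  choose t ht ht0 using hker
  classical
  let g : P.Ring := ∏ x ∈ s.attach, t x.1 x.2
  have hg : φ g ∉ Q := Submonoid.prod_mem Qp.primeCompl (fun x _ => ht x.1 x.2)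
  have hgker : RingHom.ker φ.toRingHom ≤ (Ideal.span {g}).annihilator := by
    rw [← hs, Ideal.span_le]
    intro x hx
    rw [SetLike.mem_coe, Submodule.mem_annihilator_span_singleton, smul_eq_mul]
    obtain ⟨c, hc⟩ := Finset.dvd_prod_of_mem (fun x : s => t x.1 x.2) (Finset.mem_attach s ⟨x, hx⟩)
    rw [show g = t x hx * c from hc, mul_left_comm, ← mul_assoc, ht0 x hx, zero_mul]
  have hbij : Function.Bijective (Localization.awayMapₐ φ g) := by
    refine ⟨?_, IsLocalization.Away.mapₐ_surjective_of_surjective _ hφ⟩
    rw [injective_iff_map_eq_zero]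
    intro z hz
    obtain ⟨a, ⟨_, k, rfl⟩, rfl⟩ := IsLocalization.exists_mk'_eq (Submonoid.powers g) z
    rw [IsLocalization.mk'_eq_zero_iff]
    have h0 : algebraMap (Localization.Away f) (Localization.Away (φ g)) (φ a) = 0 := by
      have := congrArg (fun z => z * algebraMap _ (Localization.Away (φ g)) (φ (g ^ k))) hz
      simp only [zero_mul] at this
      rw [← this]
      simp [Localization.awayMapₐ, IsLocalization.Away.mapₐ_apply, IsLocalization.Away.map,
        IsLocalization.map_mk']
      rw [← map_pow (algebraMap (Localization.Away f) (Localization.Away (φ g)))]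
      exact (IsLocalization.mk'_spec (Localization.Away (φ g)) (φ a)
        (⟨φ g ^ k, k, rfl⟩ : Submonoid.powers (φ g))).symm
    obtain ⟨⟨_, m, rfl⟩, hm⟩ := (IsLocalization.map_eq_zero_iff (Submonoid.powers (φ g)) _ _).mp h0
    have h1 : g ^ m * a ∈ RingHom.ker φ.toRingHom := by simpa [map_pow] using hm
    have := Submodule.mem_annihilator.mp (hgker h1) g (Ideal.mem_span_singleton_self g)
    exact ⟨⟨g ^ (m + 1), m + 1, rfl⟩, by change g ^ (m + 1) * a = 0; rw [pow_succ, ← this, smul_eq_mul]; ring⟩
  have : Algebra.Etale A (Localization.Away (φ g)) :=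
    Algebra.Etale.of_equiv (AlgEquiv.ofBijective _ hbij)
  have hQet : Algebra.IsEtaleAt A Q :=
    Algebra.basicOpen_subset_etaleLocus_iff_etale.mpr ‹Algebra.Etale A (Localization.Away (φ g))›
      (show (⟨Q, ‹_›⟩ : PrimeSpectrum (Localization.Away f)) ∈ PrimeSpectrum.basicOpen (φ g) from hg)
  exact Algebra.FormallyEtale.of_equiv
    ((IsLocalization.algEquiv p.primeCompl LQ (Localization.AtPrime p)).restrictScalars A)

variable [Algebra A C] [Algebra B C] [IsScalarTower A B C]

lemma isUnramifiedAt_of_flat_of_comp [Algebra.EssFiniteType A B] [Algebra.EssFiniteType A C]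
    (q : Ideal C) [q.IsPrime] [q.LiesOver p] [Algebra.IsUnramifiedAt A q]
    [Module.Flat B (Localization.AtPrime q)] : Algebra.IsUnramifiedAt A p := by
  let r := p.under A
  have : q.LiesOver r := Ideal.LiesOver.trans q p r
  let := Localization.AtPrime.algebraOfLiesOver p q
  let := Localization.AtPrime.algebraOfLiesOver r p
  let := Localization.AtPrime.algebraOfLiesOver r q
  have : Module.Flat (Localization.AtPrime p) (Localization.AtPrime q) :=
    (Module.flat_iff_of_isLocalization (Localization.AtPrime p) p.primeCompl _).mpr ‹_›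
  have : Module.FaithfullyFlat (Localization.AtPrime p) (Localization.AtPrime q) :=
    Module.FaithfullyFlat.of_flat_of_isLocalHom
  obtain ⟨hsep, hmap⟩ := (Algebra.isUnramifiedAt_iff_map_eq A r q).mp ‹_›
  rw [Algebra.isUnramifiedAt_iff_map_eq A r p]
  refine ⟨?_, ?_⟩
  · have : IsScalarTower r.ResidueField p.ResidueField q.ResidueField := inferInstance
    exact Algebra.isSeparable_tower_bot_of_isSeparable r.ResidueField p.ResidueField q.ResidueField
  · rw [IsScalarTower.algebraMap_eq A (Localization.AtPrime p) (Localization.AtPrime q),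
      ← Ideal.map_map] at hmap
    rw [← Ideal.comap_map_eq_self_of_faithfullyFlat (B := Localization.AtPrime q)
      (r.map (algebraMap A (Localization.AtPrime p))), hmap,
      IsLocalRing.maximalIdeal_comap]

end Local

section BaseChange

variable {A B T : Type u} [CommRing A] [CommRing B] [CommRing T] [Algebra A B] [Algebra A T]

attribute [local instance] Algebra.TensorProduct.rightAlgebra

lemma isUnramifiedAt_of_baseChange [Algebra.EssFiniteType A B] (q' : Ideal (T ⊗[A] B))
    [q'.IsPrime] [Algebra.IsUnramifiedAt T q'] : Algebra.IsUnramifiedAt A (q'.under B) := by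
  have h' : (⟨q', ‹_›⟩ : PrimeSpectrum (T ⊗[A] B)) ∈ Algebra.unramifiedLocus T (T ⊗[A] B) := ‹_›
  rw [Algebra.unramifiedLocus_eq_compl_support, Set.mem_compl_iff,
    ← (KaehlerDifferential.tensorKaehlerEquiv A T B (T ⊗[A] B)).support_eq,
    Module.mem_support_iff_nontrivial_residueField_tensorProduct,
    not_nontrivial_iff_subsingleton] at h'
  change (⟨q'.under B, inferInstance⟩ : PrimeSpectrum B) ∈ Algebra.unramifiedLocus A B
  rw [Algebra.unramifiedLocus_eq_compl_support, Set.mem_compl_iff,
    Module.mem_support_iff_nontrivial_residueField_tensorProduct, not_nontrivial_iff_subsingleton]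
  let K := q'.ResidueField
  let k := (q'.under B).ResidueField
  have h2 : Subsingleton (K ⊗[B] Ω[B⁄A]) :=
    (TensorProduct.AlgebraTensorModule.cancelBaseChange B (T ⊗[A] B) K K Ω[B⁄A]).symm.toEquiv.subsingleton
  let i : k →+* K := Ideal.ResidueField.map (q'.under B) q' (algebraMap B (T ⊗[A] B)) rfl
  let : Algebra k K := i.toAlgebra
  have : IsScalarTower B k K := IsScalarTower.of_algebraMap_eq fun b => by
    simp [RingHom.algebraMap_toAlgebra, i, k, K]
    exact IsScalarTower.algebraMap_apply B (T ⊗[A] B) q'.ResidueField b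
  have : Subsingleton (K ⊗[k] (k ⊗[B] Ω[B⁄A])) :=
    (TensorProduct.AlgebraTensorModule.cancelBaseChange B k K K Ω[B⁄A]).toEquiv.subsingleton
  exact Module.FaithfullyFlat.lTensor_reflects_triviality k K _

lemma bijective_liftBaseChange_h1Cotangent [Module.Flat A T] :
    Function.Bijective ((Algebra.H1Cotangent.map A T B (T ⊗[A] B)).liftBaseChange (T ⊗[A] B)) := by
  let M := Algebra.H1Cotangent A B
  let Φ := (Algebra.H1Cotangent.map A T B (T ⊗[A] B)).liftBaseChange (T ⊗[A] B)
  let j : T ⊗[A] M →ₗ[A] (T ⊗[A] B) ⊗[B] M :=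
    TensorProduct.lift (LinearMap.mk₂ A (fun t x => (t ⊗ₜ[A] (1 : B)) ⊗ₜ[B] x)
      (fun a b x => by simp [TensorProduct.add_tmul])
      (fun c a x => by simp [TensorProduct.smul_tmul'])
      (fun a x y => by simp [TensorProduct.tmul_add])
      (fun c a x => by simp [TensorProduct.tmul_smul]))
  have hcomp : ∀ z, Φ (j z) = Algebra.tensorH1CotangentOfFlat A B T z := by
    intro z
    induction z using TensorProduct.induction_on with
    | zero => simp
    | add x y hx hy => simp [hx, hy]
    | tmul t x =>
      rw [Algebra.tensorH1CotangentOfFlat_tmul]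
      simp only [j, Φ, TensorProduct.lift.tmul, LinearMap.mk₂_apply, LinearMap.liftBaseChange_tmul]
      exact algebraMap_smul (T ⊗[A] B) t (Algebra.H1Cotangent.map A T B (T ⊗[A] B) x)
  have hj : Function.Surjective j := by
    intro z
    induction z using TensorProduct.induction_on with
    | zero => exact ⟨0, map_zero _⟩
    | add x y hx hy => obtain ⟨x, rfl⟩ := hx; obtain ⟨y, rfl⟩ := hy; exact ⟨x + y, map_add _ _ _⟩
    | tmul s x =>
      induction s using TensorProduct.induction_on with
      | zero => exact ⟨0, by simp⟩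
      | add a b ha hb =>
        obtain ⟨a', ha⟩ := ha; obtain ⟨b', hb⟩ := hb
        exact ⟨a' + b', by simp [ha, hb, TensorProduct.add_tmul]⟩
      | tmul t b =>
        refine ⟨t ⊗ₜ (b • x), ?_⟩
        simp only [j, TensorProduct.lift.tmul, LinearMap.mk₂_apply]
        rw [← TensorProduct.smul_tmul, Algebra.smul_def]
        simp [RingHom.algebraMap_toAlgebra]
  constructor
  · intro z₁ z₂ h
    obtain ⟨w₁, rfl⟩ := hj z₁; obtain ⟨w₂, rfl⟩ := hj z₂
    rw [show w₁ = w₂ from (Algebra.tensorH1CotangentOfFlat A B T).injective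
      (by rw [← hcomp, ← hcomp]; exact h)]
  · intro y
    obtain ⟨z, rfl⟩ := (Algebra.tensorH1CotangentOfFlat A B T).surjective y
    exact ⟨j z, hcomp z⟩

lemma isSmoothAt_of_baseChange_of_flat [Algebra.FinitePresentation A B] [Module.Flat A T]
    (q' : Ideal (T ⊗[A] B)) [q'.IsPrime] [Algebra.IsSmoothAt T q'] :
    Algebra.IsSmoothAt A (q'.under B) := by
  let B' := T ⊗[A] B
  let q := q'.under B
  let L := Localization.AtPrime q'
  let Bq := Localization.AtPrime q
  have : q'.LiesOver q := ⟨rfl⟩
  let := Localization.AtPrime.algebraOfLiesOver q q'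
  have : Module.Flat B B' := Module.Flat.isBaseChange A B T B' Algebra.IsPushout.out
  have : Module.Flat B L := .trans B B' L
  have : Module.Flat Bq L :=
    (Module.flat_iff_of_isLocalization Bq q.primeCompl _).mpr ‹_›
  have : Module.FaithfullyFlat Bq L := Module.FaithfullyFlat.of_flat_of_isLocalHom
  have hq' : (⟨q', ‹_›⟩ : PrimeSpectrum B') ∈ Algebra.smoothLocus T B' := ‹_›
  rw [Algebra.smoothLocus_eq_compl_support_inter] at hq'
  change (⟨q, inferInstance⟩ : PrimeSpectrum B) ∈ Algebra.smoothLocus A B
  rw [Algebra.smoothLocus_eq_compl_support_inter]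
  refine ⟨?_, ?_⟩
  · rw [Set.mem_compl_iff, Module.notMem_support_iff]
    have h := hq'.1
    rw [Set.mem_compl_iff, ← (LinearEquiv.ofBijective _ bijective_liftBaseChange_h1Cotangent).support_eq,
      Module.notMem_support_iff] at h
    let M := Algebra.H1Cotangent A B
    have h1 : Subsingleton (L ⊗[B'] (B' ⊗[B] M)) :=
      (LocalizedModule.equivTensorProduct q'.primeCompl (B' ⊗[B] M)).symm.toEquiv.subsingleton
    have h2 : Subsingleton (L ⊗[B] M) :=
      (TensorProduct.AlgebraTensorModule.cancelBaseChange B B' L L M).symm.toEquiv.subsingleton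
    have h3 : Subsingleton (L ⊗[Bq] (Bq ⊗[B] M)) :=
      (TensorProduct.AlgebraTensorModule.cancelBaseChange B Bq L L M).toEquiv.subsingleton
    have h4 : Subsingleton (Bq ⊗[B] M) :=
      Module.FaithfullyFlat.lTensor_reflects_triviality Bq L _
    exact (LocalizedModule.equivTensorProduct q.primeCompl M).toEquiv.subsingleton
  · have h := hq'.2
    rw [Module.mem_freeLocus_iff_tensor _ (Localization.AtPrime q')] at h
    rw [Module.mem_freeLocus_iff_tensor _ (Localization.AtPrime q)]
    have h1 : Module.Free L (L ⊗[B'] (B' ⊗[B] Ω[B⁄A])) :=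
      Module.Free.of_equiv' h ((TensorProduct.AlgebraTensorModule.congr (LinearEquiv.refl L L)
        (KaehlerDifferential.tensorKaehlerEquiv A T B B').symm))
    have h2 : Module.Free L (L ⊗[Bq] (Bq ⊗[B] Ω[B⁄A])) :=
      Module.Free.of_equiv' h1 ((TensorProduct.AlgebraTensorModule.cancelBaseChange B B' L L _) ≪≫ₗ
        (TensorProduct.AlgebraTensorModule.cancelBaseChange B Bq L L _).symm)
    have : Module.Flat Bq (Bq ⊗[B] Ω[B⁄A]) := Module.Flat.of_flat_tensorProduct _ _ L
    exact Module.free_of_flat_of_isLocalRing

end BaseChange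

end Groth.Agent.Unram
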