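import Groth.Agent.Unram.Descent
import Mathlib.RingTheory.Localization.BaseChange

set_option autoImplicit false

open scoped TensorProduct

universe u

namespace Groth.Agent.Unram

variable {A B T : Type u} [CommRing A] [CommRing B] [CommRing T] [Algebra A B] [Algebra A T]

/-- Smoothness at a point descends along a base change which is flat at the corresponding point. -/
lemma isSmoothAt_of_baseChange_of_flatAt [Algebra.FinitePresentation A B]
    (q' : Ideal (T ⊗[A] B)) [q'.IsPrime]
    [Module.Flat A (Localization.AtPrime (q'.comap (algebraMap T (T ⊗[A] B))))]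
    [Algebra.IsSmoothAt T q'] :
    Algebra.IsSmoothAt A (q'.comap
      (Algebra.TensorProduct.includeRight (R := A) (A := T) (B := B)).toRingHom) := by
  let p := q'.comap (algebraMap T (T ⊗[A] B))
  let T' := Localization.AtPrime p
  let φ : T ⊗[A] B →ₐ[T] T' ⊗[A] B :=
    Algebra.TensorProduct.map (Algebra.ofId T T') (AlgHom.id A B)
  algebraize [φ.toRingHom]
  have : IsScalarTower T (T ⊗[A] B) (T' ⊗[A] B) :=
    IsScalarTower.of_algebraMap_eq fun a => (φ.commutes a).symm
  let e₀ := Algebra.TensorProduct.cancelBaseChange A T T' T' B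
  let e : T' ⊗[T] (T ⊗[A] B) ≃ₐ[T] T' ⊗[A] B := e₀.restrictScalars T
  have he : ∀ z, e ((1 : T') ⊗ₜ[T] z) = φ z := by
    intro z
    induction z using TensorProduct.induction_on with
    | zero => simp
    | add x y hx hy => simp [TensorProduct.tmul_add, hx, hy]
    | tmul t b =>
      change e₀ ((1 : T') ⊗ₜ[T] (t ⊗ₜ[A] b)) = φ (t ⊗ₜ[A] b)
      simp [e₀, φ, Algebra.TensorProduct.cancelBaseChange, Algebra.smul_def]
  let M := Algebra.algebraMapSubmonoid (T ⊗[A] B) p.primeCompl
  letI : Algebra (T ⊗[A] B) (T' ⊗[T] (T ⊗[A] B)) := Algebra.TensorProduct.rightAlgebra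
  have : IsLocalization M (T' ⊗[T] (T ⊗[A] B)) := inferInstance
  have : IsLocalization M (T' ⊗[A] B) :=
    IsLocalization.isLocalization_of_algEquiv M
      (S := T' ⊗[T] (T ⊗[A] B)) { e with commutes' := fun z => he z }
  have hdisj : Disjoint (M : Set (T ⊗[A] B)) q' := by
    rw [Set.disjoint_left]
    rintro _ ⟨t, ht, rfl⟩ hmem
    exact ht hmem
  let Q : Ideal (T' ⊗[A] B) := q'.map φ.toRingHom
  have : Q.IsPrime := IsLocalization.isPrime_of_isPrime_disjoint M _ _ ‹_› hdisj
  have hQ : Q.comap φ.toRingHom = q' :=
    IsLocalization.under_map_of_isPrime_disjoint M _ ‹_› hdisj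
  let L := Localization.AtPrime Q
  have : IsLocalization.AtPrime L q' := by
    have h := IsLocalization.isLocalization_isLocalization_atPrime_isLocalization M L Q
    change IsLocalization q'.primeCompl L
    convert h using 1
    ext z
    simp only [Ideal.mem_primeCompl_iff]
    exact not_congr (SetLike.ext_iff.mp hQ z).symm
  have : Algebra.FormallySmooth T L := Algebra.FormallySmooth.of_equiv
    ((IsLocalization.algEquiv q'.primeCompl (Localization.AtPrime q') L).restrictScalars T)
  have : Algebra.FormallyEtale T T' := Algebra.FormallyEtale.of_isLocalization p.primeCompl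
  have hs : Algebra.IsSmoothAt T' Q :=
    Algebra.FormallySmooth.iff_restrictScalars.mp ‹Algebra.FormallySmooth T L›
  have : Module.Flat A T' := ‹Module.Flat A (Localization.AtPrime (q'.comap _))›
  letI : Algebra B (T' ⊗[A] B) := Algebra.TensorProduct.rightAlgebra
  have := isSmoothAt_of_baseChange_of_flat (A := A) (B := B) (T := T') Q
  convert this using 2
  rw [Ideal.under_def]
  refine (congrArg (Ideal.comap _) hQ).symm.trans ?_
  rw [Ideal.comap_comap]
  congr 1
  ext b
  simp [φ, RingHom.algebraMap_toAlgebra]

end Groth.Agent.Unram
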