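import Mathlib.RingTheory.Smooth.Flat
import Mathlib.RingTheory.Smooth.Locus
import Mathlib.RingTheory.Flat.Stability

set_option autoImplicit false

universe u

namespace Groth.Agent.Unram

lemma flat_localization_of_isSmoothAt {A B : Type u} [CommRing A] [CommRing B] [Algebra A B]
    [Algebra.FinitePresentation A B] (q : Ideal B) [q.IsPrime] [Algebra.IsSmoothAt A q] :
    Module.Flat A (Localization.AtPrime q) := by
  obtain ⟨f, hf, hs⟩ := Algebra.IsSmoothAt.exists_notMem_smooth A q
  have : Module.Flat A (Localization.Away f) := inferInstance
  have hu : IsUnit (algebraMap B (Localization.AtPrime q) f) :=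
    IsLocalization.map_units (Localization.AtPrime q) (⟨f, hf⟩ : q.primeCompl)
  let φ : Localization.Away f →+* Localization.AtPrime q := IsLocalization.Away.lift f hu
  algebraize [φ]
  have : IsScalarTower B (Localization.Away f) (Localization.AtPrime q) :=
    .of_algebraMap_eq fun b => (IsLocalization.Away.lift_eq f hu b).symm
  have : IsScalarTower A (Localization.Away f) (Localization.AtPrime q) :=
    .to₁₃₄ A B _ _
  have : IsLocalization (Algebra.algebraMapSubmonoid (Localization.Away f) q.primeCompl)
      (Localization.AtPrime q) :=
    IsLocalization.isLocalization_of_submonoid_le (Localization.Away f) (Localization.AtPrime q)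
      (Submonoid.powers f) q.primeCompl (by rintro _ ⟨n, rfl⟩; exact pow_mem hf n)
  have : Module.Flat (Localization.Away f) (Localization.AtPrime q) :=
    IsLocalization.flat _ (Algebra.algebraMapSubmonoid (Localization.Away f) q.primeCompl)
  exact .trans A (Localization.Away f) _

end Groth.Agent.Unram
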