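import Groth.Agent.Unram.Pointwise
import Groth.Agent.Unram.Descent
import Mathlib.AlgebraicGeometry.PullbackCarrier

set_option autoImplicit false

open CategoryTheory AlgebraicGeometry Limits
open scoped TensorProduct

universe u

namespace Groth.Agent.Unram

variable {X Y : Scheme.{u}}

lemma stalkMap_iff_of_comm {P : ∀ {R S : Type u} [CommRing R] [CommRing S], (R →+* S) → Prop}
    (hP : RingHom.RespectsIso P) {X₀ Y₀ : Scheme.{u}} (f : X ⟶ Y) (f₀ : X₀ ⟶ Y₀) (i : X₀ ⟶ X)
    (j : Y₀ ⟶ Y) [IsOpenImmersion i] [IsOpenImmersion j] (h : i ≫ f = f₀ ≫ j) (x : X₀) :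
    P (f.stalkMap (i x)).hom ↔ P (f₀.stalkMap x).hom := by
  have h₁ : P ((i ≫ f).stalkMap x).hom ↔ P (f.stalkMap (i x)).hom := by
    refine Iff.trans ?_ (hP.cancel_right_isIso _ (i.stalkMap x))
    rw [← CommRingCat.hom_comp, ← Scheme.Hom.stalkMap_comp]
    rfl
  have h₂ : P ((f₀ ≫ j).stalkMap x).hom ↔ P (f₀.stalkMap x).hom := by
    refine Iff.trans ?_ (hP.cancel_left_isIso (j.stalkMap (f₀ x)) _)
    rw [← CommRingCat.hom_comp, ← Scheme.Hom.stalkMap_comp]
    rfl
  rw [← h₁, ← h₂]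
  generalize he : f₀ ≫ j = e
  rw [he] at h
  subst h
  rfl

lemma stalkMap_iff_of_comm' {P : ∀ {R S : Type u} [CommRing R] [CommRing S], (R →+* S) → Prop}
    (hP : RingHom.RespectsIso P) {X₀ Y₀ : Scheme.{u}} (f : X ⟶ Y) (f₀ : X₀ ⟶ Y₀) (i : X₀ ⟶ X)
    (j : Y₀ ⟶ Y) [IsOpenImmersion i] [IsOpenImmersion j] (h : i ≫ f = f₀ ≫ j) {W : Scheme.{u}}
    (a : W ⟶ X) (b : W ⟶ X₀) (hab : a = b ≫ i) (x : W) :
    P (f.stalkMap (a x)).hom ↔ P (f₀.stalkMap (b x)).hom := by
  subst hab
  exact stalkMap_iff_of_comm hP f f₀ i j h (b x)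

section Spec

variable (A B : Type u) [CommRing A] [CommRing B] [Algebra A B] (q : PrimeSpectrum B)

lemma formallySmooth_stalkMap_SpecMap_iff :
    ((Spec.map (CommRingCat.ofHom (algebraMap A B))).stalkMap q).hom.FormallySmooth ↔
      Algebra.IsSmoothAt A q.asIdeal := by
  let p := (q.comap (algebraMap A B)).asIdeal
  have : q.asIdeal.LiesOver p := ⟨rfl⟩
  let := Localization.AtPrime.algebraOfLiesOver p q.asIdeal
  trans Algebra.FormallySmooth (Localization.AtPrime p) (Localization.AtPrime q.asIdeal)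
  · rw [← RingHom.formallySmooth_algebraMap]
    exact RingHom.FormallySmooth.respectsIso.arrow_mk_iso_iff
      (Scheme.arrowStalkMapSpecIso (CommRingCat.ofHom (algebraMap A B)) q)
  · exact Algebra.FormallySmooth.iff_restrictScalars.symm

lemma formallyUnramified_stalkMap_SpecMap_iff :
    ((Spec.map (CommRingCat.ofHom (algebraMap A B))).stalkMap q).hom.FormallyUnramified ↔
      Algebra.IsUnramifiedAt A q.asIdeal := by
  let p := (q.comap (algebraMap A B)).asIdeal
  have : q.asIdeal.LiesOver p := ⟨rfl⟩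
  let := Localization.AtPrime.algebraOfLiesOver p q.asIdeal
  trans Algebra.FormallyUnramified (Localization.AtPrime p) (Localization.AtPrime q.asIdeal)
  · rw [← RingHom.formallyUnramified_algebraMap]
    exact RingHom.FormallyUnramified.respectsIso.arrow_mk_iso_iff
      (Scheme.arrowStalkMapSpecIso (CommRingCat.ofHom (algebraMap A B)) q)
  · exact ⟨fun _ => Algebra.FormallyUnramified.comp _ (Localization.AtPrime p) _,
      fun h => @Algebra.FormallyUnramified.of_restrictScalars A _ (Localization.AtPrime p) _ _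
        (Localization.AtPrime q.asIdeal) _ _ _ _ h⟩

lemma flat_stalkMap_SpecMap_iff :
    ((Spec.map (CommRingCat.ofHom (algebraMap A B))).stalkMap q).hom.Flat ↔
      Module.Flat A (Localization.AtPrime q.asIdeal) := by
  let p := (q.comap (algebraMap A B)).asIdeal
  have : q.asIdeal.LiesOver p := ⟨rfl⟩
  let := Localization.AtPrime.algebraOfLiesOver p q.asIdeal
  trans Module.Flat (Localization.AtPrime p) (Localization.AtPrime q.asIdeal)
  · rw [← RingHom.flat_algebraMap_iff]
    exact RingHom.Flat.respectsIso.arrow_mk_iso_iff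
      (Scheme.arrowStalkMapSpecIso (CommRingCat.ofHom (algebraMap A B)) q)
  · exact Module.flat_iff_of_isLocalization (Localization.AtPrime p) p.primeCompl _

end Spec

/-- Reduce a base change situation at a point to affine schemes. -/
lemma exists_affine_baseChange {Y' : Scheme.{u}} (f : X ⟶ Y) (g : Y' ⟶ Y) (x' : ↑(pullback f g)) :
    ∃ (A B T : Type u) (_ : CommRing A) (_ : CommRing B) (_ : CommRing T) (_ : Algebra A B)
      (_ : Algebra A T) (jY : Spec (.of A) ⟶ Y) (jX : Spec (.of B) ⟶ X) (jT : Spec (.of T) ⟶ Y')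
      (jP : Spec (.of (T ⊗[A] B)) ⟶ pullback f g) (q : PrimeSpectrum (T ⊗[A] B)),
      IsOpenImmersion jY ∧ IsOpenImmersion jX ∧ IsOpenImmersion jT ∧ IsOpenImmersion jP ∧
      jX ≫ f = Spec.map (CommRingCat.ofHom (algebraMap A B)) ≫ jY ∧
      jT ≫ g = Spec.map (CommRingCat.ofHom (algebraMap A T)) ≫ jY ∧
      jP ≫ pullback.fst f g = Spec.map (CommRingCat.ofHom
        Algebra.TensorProduct.includeRight.toRingHom) ≫ jX ∧
      jP ≫ pullback.snd f g = Spec.map (CommRingCat.ofHom (algebraMap T (T ⊗[A] B))) ≫ jT ∧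
      jP q = x' := by
  let y := f (pullback.fst f g x')
  obtain ⟨_, ⟨U, hU, rfl⟩, hyU, -⟩ :=
    Y.isBasis_affineOpens.exists_subset_of_mem_open (Set.mem_univ y) isOpen_univ
  obtain ⟨_, ⟨V, hV, rfl⟩, hxV, hVU⟩ :=
    X.isBasis_affineOpens.exists_subset_of_mem_open (a := pullback.fst f g x') hyU
      (U.2.preimage f.continuous)
  have hy' : pullback.snd f g x' ∈ g ⁻¹ᵁ U := by
    change g (pullback.snd f g x') ∈ U
    rw [← Scheme.Hom.comp_apply, ← pullback.condition, Scheme.Hom.comp_apply]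
    exact hyU
  obtain ⟨_, ⟨U', hU', rfl⟩, hxU', hU'U⟩ :=
    Y'.isBasis_affineOpens.exists_subset_of_mem_open hy' (U.2.preimage g.continuous)
  algebraize [(f.appLE U V hVU).hom, (g.appLE U U' hU'U).hom]
  let φ := CommRingCat.ofHom (algebraMap Γ(Y, U) Γ(X, V))
  let ψ := CommRingCat.ofHom (algebraMap Γ(Y, U) Γ(Y', U'))
  have e₁ : hV.fromSpec ≫ f = Spec.map φ ≫ hU.fromSpec :=
    (IsAffineOpen.SpecMap_appLE_fromSpec f hU hV hVU).symm
  have e₂ : hU'.fromSpec ≫ g = Spec.map ψ ≫ hU.fromSpec :=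
    (IsAffineOpen.SpecMap_appLE_fromSpec g hU hU' hU'U).symm
  let m := pullback.map (Spec.map φ) (Spec.map ψ) f g hV.fromSpec hU'.fromSpec hU.fromSpec
    e₁.symm e₂.symm
  have hmem : x' ∈ Set.range m := by
    rw [Scheme.Pullback.range_map]
    refine ⟨?_, ?_⟩ <;> rw [Set.mem_preimage]
    · exact hV.range_fromSpec.ge hxV
    · exact hU'.range_fromSpec.ge hxU'
  obtain ⟨z, hz⟩ := hmem
  have hpb : IsPullback
      (Spec.map (CommRingCat.ofHom
        (Algebra.TensorProduct.includeRight (R := Γ(Y, U)) (A := Γ(Y', U')) (B := Γ(X, V))).toRingHom))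
      (Spec.map (CommRingCat.ofHom (algebraMap Γ(Y', U') (Γ(Y', U') ⊗[Γ(Y, U)] Γ(X, V)))))
      (Spec.map φ) (Spec.map ψ) :=
    (isPullback_SpecMap_of_isPushout _ _ _ _
      (CommRingCat.isPushout_tensorProduct Γ(Y, U) Γ(Y', U') Γ(X, V))).flip
  refine ⟨Γ(Y, U), Γ(X, V), Γ(Y', U'), inferInstance, inferInstance, inferInstance, inferInstance,
    inferInstance, hU.fromSpec, hV.fromSpec, hU'.fromSpec, hpb.isoPullback.hom ≫ m,
    hpb.isoPullback.inv z, inferInstance, inferInstance, inferInstance, inferInstance, e₁, e₂,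
    ?_, ?_, ?_⟩
  · rw [Category.assoc, pullback.lift_fst, ← Category.assoc, IsPullback.isoPullback_hom_fst]
  · rw [Category.assoc, pullback.lift_snd, ← Category.assoc, IsPullback.isoPullback_hom_snd]
  · rw [← hz, Scheme.Hom.comp_apply, ← Scheme.Hom.comp_apply hpb.isoPullback.inv,
      Iso.inv_hom_id]
    rfl

/-- Reduce a morphism at a point to affine schemes. -/
lemma exists_affine_tower {S : Scheme.{u}} (g : X ⟶ Y) (f : Y ⟶ S) (x : X) :
    ∃ (A B C : Type u) (_ : CommRing A) (_ : CommRing B) (_ : CommRing C) (_ : Algebra A B)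
      (_ : Algebra B C) (_ : Algebra A C) (_ : IsScalarTower A B C) (jS : Spec (.of A) ⟶ S)
      (jY : Spec (.of B) ⟶ Y) (jX : Spec (.of C) ⟶ X) (q : PrimeSpectrum C),
      IsOpenImmersion jS ∧ IsOpenImmersion jY ∧ IsOpenImmersion jX ∧
      jX ≫ g = Spec.map (CommRingCat.ofHom (algebraMap B C)) ≫ jY ∧
      jY ≫ f = Spec.map (CommRingCat.ofHom (algebraMap A B)) ≫ jS ∧
      jX ≫ g ≫ f = Spec.map (CommRingCat.ofHom (algebraMap A C)) ≫ jS ∧
      jX q = x := by
  obtain ⟨U, hU, V, hV, hVU, hgx⟩ := exists_chart f (g x)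
  obtain ⟨_, ⟨W, hW, rfl⟩, hxW, hWV⟩ :=
    X.isBasis_affineOpens.exists_subset_of_mem_open (a := x) hgx (V.2.preimage g.continuous)
  algebraize [(f.appLE U V hVU).hom, (g.appLE V W hWV).hom]
  let : Algebra Γ(S, U) Γ(X, W) :=
    ((g.appLE V W hWV).hom.comp (f.appLE U V hVU).hom).toAlgebra
  have : IsScalarTower Γ(S, U) Γ(Y, V) Γ(X, W) := .of_algebraMap_eq' rfl
  refine ⟨Γ(S, U), Γ(Y, V), Γ(X, W), inferInstance, inferInstance, inferInstance, inferInstance,
    inferInstance, inferInstance, inferInstance, hU.fromSpec, hV.fromSpec, hW.fromSpec,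
    hW.primeIdealOf ⟨x, hxW⟩, inferInstance, inferInstance, inferInstance,
    (IsAffineOpen.SpecMap_appLE_fromSpec g hV hW hWV).symm,
    (IsAffineOpen.SpecMap_appLE_fromSpec f hU hV hVU).symm, ?_, hW.fromSpec_primeIdealOf _⟩
  rw [← Category.assoc, ← IsAffineOpen.SpecMap_appLE_fromSpec g hV hW hWV, Category.assoc,
    ← IsAffineOpen.SpecMap_appLE_fromSpec f hU hV hVU, ← Category.assoc, ← Spec.map_comp]
  rfl

section Finiteness

variable {A B : Type u} [CommRing A] [CommRing B] [Algebra A B]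
  (f : X ⟶ Y) (jY : Spec (.of A) ⟶ Y) (jX : Spec (.of B) ⟶ X) [IsOpenImmersion jY]
  [IsOpenImmersion jX]

lemma finitePresentation_of_affine [LocallyOfFinitePresentation f]
    (h : jX ≫ f = Spec.map (CommRingCat.ofHom (algebraMap A B)) ≫ jY) :
    Algebra.FinitePresentation A B := by
  have : LocallyOfFinitePresentation
      (Spec.map (CommRingCat.ofHom (algebraMap A B)) ≫ jY) := h ▸ inferInstance
  have : LocallyOfFinitePresentation (Spec.map (CommRingCat.ofHom (algebraMap A B))) :=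
    IsZariskiLocalAtTarget.of_isPullback (f := Spec.map (CommRingCat.ofHom (algebraMap A B)) ≫ jY)
      (UX := Spec (.of B)) (iX := 𝟙 _) (iY := jY)
      ((IsPullback.of_horiz_isIso_mono (by simp))) this
  rw [HasRingHomProperty.Spec_iff (P := @LocallyOfFinitePresentation)] at this
  exact RingHom.finitePresentation_algebraMap.mp this

lemma finiteType_of_affine [LocallyOfFiniteType f]
    (h : jX ≫ f = Spec.map (CommRingCat.ofHom (algebraMap A B)) ≫ jY) :
    Algebra.FiniteType A B := by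
  have : LocallyOfFiniteType
      (Spec.map (CommRingCat.ofHom (algebraMap A B)) ≫ jY) := h ▸ inferInstance
  have : LocallyOfFiniteType (Spec.map (CommRingCat.ofHom (algebraMap A B))) :=
    locallyOfFiniteType_of_comp _ jY
  rw [HasRingHomProperty.Spec_iff (P := @LocallyOfFiniteType)] at this
  exact RingHom.finiteType_algebraMap.mp this

end Finiteness

end Groth.Agent.Unram
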