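import Mathlib.RingTheory.Unramified.LocalRing
import Mathlib.RingTheory.RingHom.EssFiniteType
import Mathlib.RingTheory.RingHom.Unramified

set_option autoImplicit false

open IsLocalRing

universe u

namespace Groth.Agent.Unram

lemma formallyUnramified_iff_quotient_field {R S : Type u} [CommRing R] [CommRing S]
    [IsLocalRing R] [IsLocalRing S] (φ : R →+* S) [IsLocalHom φ] (hφ : φ.EssFiniteType) :
    φ.FormallyUnramified ↔
      letI := (Ideal.quotientMap ((maximalIdeal R).map φ) φ Ideal.le_comap_map).toAlgebra
      IsField (S ⧸ (maximalIdeal R).map φ) ∧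
        Module.Finite (R ⧸ maximalIdeal R) (S ⧸ (maximalIdeal R).map φ) ∧
        Algebra.IsSeparable (R ⧸ maximalIdeal R) (S ⧸ (maximalIdeal R).map φ) := by
  algebraize [φ]
  have : IsLocalHom (algebraMap R S) := ‹IsLocalHom φ›
  rw [show φ = algebraMap R S from rfl, RingHom.formallyUnramified_algebraMap]
  let := (Ideal.quotientMap ((maximalIdeal R).map (algebraMap R S)) (algebraMap R S)
    Ideal.le_comap_map).toAlgebra
  let := Ideal.Quotient.field (maximalIdeal R)
  let e₀ : ResidueField R ≃+* R ⧸ maximalIdeal R := RingEquiv.refl _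
  constructor
  · intro h
    have hm := Algebra.FormallyUnramified.map_maximalIdeal (R := R) (S := S)
    let e : ResidueField S ≃+* S ⧸ (maximalIdeal R).map (algebraMap R S) :=
      Ideal.quotEquivOfEq hm.symm
    have he : RingHom.comp (algebraMap (R ⧸ maximalIdeal R) _) e₀.toRingHom =
        RingHom.comp e.toRingHom (algebraMap (ResidueField R) (ResidueField S)) := by
      refine Ideal.Quotient.ringHom_ext (RingHom.ext fun r => ?_)
      rfl
    exact ⟨Algebra.FormallyUnramified.isField_quotient_map_maximalIdeal,
      Module.Finite.of_equiv_equiv e₀ e he,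
      Algebra.IsSeparable.of_equiv_equiv e₀ e he⟩
  · rintro ⟨h₁, h₂, h₃⟩
    have hm : (maximalIdeal R).map (algebraMap R S) = maximalIdeal S :=
      eq_maximalIdeal (Ideal.Quotient.maximal_ideal_iff_isField_quotient _ |>.mpr h₁)
    let e : S ⧸ (maximalIdeal R).map (algebraMap R S) ≃+* ResidueField S :=
      Ideal.quotEquivOfEq hm
    have he : RingHom.comp (algebraMap (ResidueField R) (ResidueField S))
          e₀.symm.toRingHom =
        RingHom.comp e.toRingHom (algebraMap (R ⧸ maximalIdeal R) _) := by
      refine Ideal.Quotient.ringHom_ext (RingHom.ext fun r => ?_)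
      rfl
    have : Algebra.IsSeparable (ResidueField R) (ResidueField S) :=
      Algebra.IsSeparable.of_equiv_equiv e₀.symm e he
    exact Algebra.FormallyUnramified.of_map_maximalIdeal hm

end Groth.Agent.Unram
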