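import Groth.Agent.Unram.Pointwise
import Groth.Agent.Unram.LocalCriterion
import Mathlib.AlgebraicGeometry.Morphisms.UniversallyInjective
import Mathlib.AlgebraicGeometry.ResidueField
import Mathlib.FieldTheory.PurelyInseparable.Basic
import Mathlib.RingTheory.Unramified.LocalRing

set_option autoImplicit false

open CategoryTheory CategoryTheory.Limits AlgebraicGeometry IsLocalRing

universe u

namespace Groth.Agent.Unram

variable {R S : Type u} [CommRing R] [CommRing S] [IsLocalRing R] [IsLocalRing S] (φ : R →+* S)
  [IsLocalHom φ]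

lemma quotientMap_bijective_iff (hφ : φ.EssFiniteType) :
    Function.Bijective (Ideal.quotientMap ((maximalIdeal R).map φ) φ Ideal.le_comap_map) ↔
      φ.FormallyUnramified ∧ Function.Surjective (IsLocalRing.ResidueField.map φ) := by
  have hle : (maximalIdeal R).map φ ≤ maximalIdeal S := map_maximalIdeal_le φ
  have hinj : Function.Injective
      (Ideal.quotientMap ((maximalIdeal R).map φ) φ Ideal.le_comap_map) := by
    refine (injective_iff_map_eq_zero _).mpr fun z hz => ?_
    obtain ⟨r, rfl⟩ := Ideal.Quotient.mk_surjective z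
    rw [Ideal.quotientMap_mk, Ideal.Quotient.eq_zero_iff_mem] at hz
    rw [Ideal.Quotient.eq_zero_iff_mem, ← IsLocalRing.maximalIdeal_comap φ]
    exact hle hz
  let := Ideal.Quotient.field (maximalIdeal R)
  constructor
  · rintro hb
    constructor
    · rw [formallyUnramified_iff_quotient_field φ hφ]
      let := (Ideal.quotientMap ((maximalIdeal R).map φ) φ Ideal.le_comap_map).toAlgebra
      let e := RingEquiv.ofBijective _ hb
      refine ⟨e.symm.toMulEquiv.isField (Field.toIsField (R ⧸ maximalIdeal R)), ?_, ?_⟩
      · exact Module.Finite.of_surjective (Algebra.linearMap _ _) hb.2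
      · refine ⟨fun y => ?_⟩
        obtain ⟨x, rfl⟩ := hb.2 y
        exact isSeparable_algebraMap x
    · intro z
      obtain ⟨s, rfl⟩ := IsLocalRing.residue_surjective z
      obtain ⟨w, hw⟩ := hb.2 (Ideal.Quotient.mk _ s)
      obtain ⟨r, rfl⟩ := Ideal.Quotient.mk_surjective w
      rw [Ideal.quotientMap_mk, Ideal.Quotient.eq] at hw
      refine ⟨residue R r, ?_⟩
      rw [ResidueField.map_residue, ← sub_eq_zero, ← map_sub, residue_eq_zero_iff]
      exact hle hw
  · rintro ⟨h₁, h₂⟩
    refine ⟨hinj, fun z => ?_⟩
    obtain ⟨s, rfl⟩ := Ideal.Quotient.mk_surjective z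
    obtain ⟨w, hw⟩ := h₂ (residue S s)
    obtain ⟨r, rfl⟩ := IsLocalRing.residue_surjective w
    refine ⟨Ideal.Quotient.mk _ r, ?_⟩
    rw [Ideal.quotientMap_mk, Ideal.Quotient.eq]
    have hm : (maximalIdeal R).map φ = maximalIdeal S := by
      algebraize [φ]
      have : IsLocalHom (algebraMap R S) := ‹IsLocalHom φ›
      exact Algebra.FormallyUnramified.map_maximalIdeal
    rw [hm, ← residue_eq_zero_iff, map_sub, sub_eq_zero, ← hw, ResidueField.map_residue]

variable {X Y : Scheme.{u}} (f : X ⟶ Y) [LocallyOfFiniteType f]

lemma mono_iff_injective_and_stalk :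
    Mono f ↔ Function.Injective f ∧ ∀ x, (f.stalkMap x).hom.FormallyUnramified ∧
      Function.Surjective (f.residueFieldMap x).hom := by
  constructor
  · intro _
    have : IsIso (pullback.diagonal f) := (pullback.isIso_diagonal_iff f).mpr ‹_›
    have hu : FormallyUnramified f := inferInstance
    have hinj := ((tfae_universallyInjective f).out 0 2 rfl rfl).mp (inferInstance : UniversallyInjective f)
    refine ⟨hinj.1, fun x => ⟨FormallyUnramified.stalkMap f x, ?_⟩⟩
    have hps := hinj.2 x
    have hφ := LocallyOfFiniteType.stalkMap f x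
    have hu' := FormallyUnramified.stalkMap f x
    algebraize [(f.stalkMap x).hom]
    have : IsLocalHom (algebraMap (Y.presheaf.stalk (f x)) (X.presheaf.stalk x)) :=
      inferInstanceAs (IsLocalHom (f.stalkMap x).hom)
    have : IsPurelyInseparable (ResidueField (Y.presheaf.stalk (f x)))
        (ResidueField (X.presheaf.stalk x)) := RingHom.isPurelyInseparable_algebraMap_iff.mp hps
    exact IsPurelyInseparable.surjective_algebraMap_of_isSeparable
      (ResidueField (Y.presheaf.stalk (f x))) (ResidueField (X.presheaf.stalk x))
  · rintro ⟨hinj, h⟩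
    have : FormallyUnramified f := (formallyUnramified_iff_stalkMap f).mpr fun x => (h x).1
    have : Surjective (pullback.diagonal f) :=
      ((tfae_universallyInjective f).out 2 3 rfl rfl).mp ⟨hinj, fun x => by
        algebraize [(f.residueFieldMap x).hom]
        have hs : Function.Surjective (algebraMap (Y.residueField (f x)) (X.residueField x)) := (h x).2
        have : Algebra.IsIntegral (Y.residueField (f x)) (X.residueField x) := ⟨fun z => by
          obtain ⟨w, rfl⟩ := hs z; exact isIntegral_algebraMap⟩
        exact ⟨inferInstance, fun z _ => hs z⟩⟩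
    have : IsIso (pullback.diagonal f) := isIso_of_isOpenImmersion_of_opensRange_eq_top _
      (TopologicalSpace.Opens.ext (Set.range_eq_univ.2 this.surj))
    exact (pullback.isIso_diagonal_iff f).1 inferInstance

end Groth.Agent.Unram
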