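import Mathlib.RingTheory.Smooth.Basic
import Mathlib.RingTheory.Etale.Basic
import Mathlib.RingTheory.Etale.Kaehler
import Mathlib.RingTheory.Kaehler.JacobiZariski
import Mathlib.RingTheory.LocalRing.Module
import Mathlib.RingTheory.Smooth.Locus

set_option autoImplicit false

open TensorProduct KaehlerDifferential

universe u

namespace Groth.Agent.Unram

variable (A B L : Type u) [CommRing A] [CommRing B] [CommRing L] [Algebra A B] [Algebra B L]
  [Algebra A L] [IsScalarTower A B L] [Algebra.FormallySmooth A L]

lemma injective_mapBaseChange_iff :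
    Function.Injective (mapBaseChange A B L) ↔ Subsingleton (Algebra.H1Cotangent B L) := by
  have hδ : Function.Injective (Algebra.H1Cotangent.δ A B L) := by
    rw [injective_iff_map_eq_zero]
    intro z hz
    obtain ⟨w, rfl⟩ := (Algebra.H1Cotangent.exact_map_δ A B L z).mp hz
    rw [Subsingleton.elim w 0, map_zero]
  have hex := Algebra.H1Cotangent.exact_δ_mapBaseChange A B L
  constructor
  · intro h
    refine ⟨fun z w => hδ (h ?_)⟩
    rw [hex.apply_apply_eq_zero, hex.apply_apply_eq_zero]
  · intro _
    rw [injective_iff_map_eq_zero]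
    intro z hz
    obtain ⟨w, rfl⟩ := (hex z).mp hz
    rw [Subsingleton.elim w 0, map_zero]

/-- Jacobian criterion for formal smoothness over an intermediate ring. -/
lemma formallySmooth_iff_exists_retraction :
    Algebra.FormallySmooth B L ↔
      ∃ r : Ω[L⁄A] →ₗ[L] L ⊗[B] Ω[B⁄A], r ∘ₗ mapBaseChange A B L = LinearMap.id := by
  have hex := KaehlerDifferential.exact_mapBaseChange_map A B L
  have hsurj := KaehlerDifferential.map_surjective A B L
  constructor
  · intro h
    exact (hex.split_tfae'.out 0 1 rfl rfl |>.mp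
      ⟨(injective_mapBaseChange_iff A B L).mpr h.subsingleton_h1Cotangent,
        Module.projective_lifting_property _ _ hsurj⟩).2
  · rintro ⟨r, hr⟩
    have hinj : Function.Injective (mapBaseChange A B L) :=
      Function.HasLeftInverse.injective ⟨r, LinearMap.congr_fun hr⟩
    obtain ⟨-, s, hs⟩ := (hex.split_tfae'.out 1 0 rfl rfl).mp ⟨hsurj, r, hr⟩
    exact ⟨Module.Projective.of_split s _ hs, (injective_mapBaseChange_iff A B L).mp hinj⟩

lemma formallyEtale_iff_bijective :
    Algebra.FormallyEtale B L ↔ Function.Bijective (mapBaseChange A B L) := by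
  have hex := KaehlerDifferential.exact_mapBaseChange_map A B L
  constructor
  · intro h
    exact ⟨(injective_mapBaseChange_iff A B L).mpr inferInstance,
      fun z => (hex z).mp (Subsingleton.elim _ _)⟩
  · rintro ⟨h₁, h₂⟩
    refine ⟨⟨fun z w => ?_⟩, (injective_mapBaseChange_iff A B L).mp h₁⟩
    obtain ⟨z, rfl⟩ := KaehlerDifferential.map_surjective A B L z
    obtain ⟨w, rfl⟩ := KaehlerDifferential.map_surjective A B L w
    obtain ⟨z, rfl⟩ := h₂ z
    obtain ⟨w, rfl⟩ := h₂ w
    rw [hex.apply_apply_eq_zero, hex.apply_apply_eq_zero]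

end Groth.Agent.Unram

namespace Groth.Agent.Unram

lemma bijective_iff_of_basis {L M N : Type u} [CommRing L] [AddCommGroup M] [Module L M]
    [AddCommGroup N] [Module L N] {κ : Type} (b : Module.Basis κ L M) (α : M →ₗ[L] N) :
    Function.Bijective α ↔
      LinearIndependent L (α ∘ b) ∧ Submodule.span L (Set.range (α ∘ b)) = ⊤ := by
  have h : Finsupp.linearCombination L (α ∘ b) = α ∘ₗ b.repr.symm.toLinearMap := by
    ext i; simp
  rw [linearIndependent_iff_injective_finsuppLinearCombination, ← Finsupp.range_linearCombination,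
    LinearMap.range_eq_top, h]
  exact and_congr (Function.Injective.of_comp_iff' α b.repr.symm.bijective).symm (by
    constructor
    · intro hs y
      obtain ⟨x, rfl⟩ := hs y
      exact ⟨b.repr x, by simp⟩
    · intro hs y
      obtain ⟨x, rfl⟩ := hs y
      exact ⟨b.repr.symm x, rfl⟩)

variable (A B C : Type u) [CommRing A] [CommRing B] [CommRing C] [Algebra A B] [Algebra B C]
  [Algebra A C] [IsScalarTower A B C] (L : Type u) [CommRing L] [Algebra C L] [Algebra A L]
  [Algebra B L] [IsScalarTower A B L] [IsScalarTower A C L] [IsScalarTower B C L]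
  [Algebra.FormallyEtale C L]

/-- Injectivity of the cotangent map after base change along `C → L → K`. -/
lemma injective_lTensor_mapBaseChange_iff (K : Type u) [CommRing K] [Algebra C K] [Algebra L K]
    [IsScalarTower C L K] :
    Function.Injective ((mapBaseChange A B C).lTensor K) ↔
      Function.Injective ((mapBaseChange A B L).lTensor K) := by
  let e₁ : K ⊗[C] (C ⊗[B] Ω[B⁄A]) ≃ₗ[K] K ⊗[L] (L ⊗[B] Ω[B⁄A]) :=
    (AlgebraTensorModule.cancelBaseChange C L K K (C ⊗[B] Ω[B⁄A])).symm ≪≫ₗ
      AlgebraTensorModule.congr (LinearEquiv.refl K K)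
        (AlgebraTensorModule.cancelBaseChange B C L L Ω[B⁄A])
  let e₂ : K ⊗[C] Ω[C⁄A] ≃ₗ[K] K ⊗[L] Ω[L⁄A] :=
    (AlgebraTensorModule.cancelBaseChange C L K K Ω[C⁄A]).symm ≪≫ₗ
      AlgebraTensorModule.congr (LinearEquiv.refl K K)
        (tensorKaehlerEquivOfFormallyEtale A C L)
  have hc : ∀ ω : Ω[B⁄A], KaehlerDifferential.map A A C L (KaehlerDifferential.map A A B C ω) =
      KaehlerDifferential.map A A B L ω := by
    intro ω
    have hω : ω ∈ Submodule.span B (Set.range (D A B)) :=
      (KaehlerDifferential.span_range_derivation A B).ge trivial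
    induction hω using Submodule.span_induction with
    | mem x hx =>
      obtain ⟨b, rfl⟩ := hx
      simp [← IsScalarTower.algebraMap_apply]
    | zero => simp
    | add x y _ _ hx hy => simp [hx, hy]
    | smul b x _ hx =>
      rw [LinearMap.map_smul, ← algebraMap_smul C b (KaehlerDifferential.map A A B C x),
        LinearMap.map_smul, algebraMap_smul, hx, LinearMap.map_smul]
  have key : ∀ z, e₂ ((mapBaseChange A B C).lTensor K z) =
      (mapBaseChange A B L).lTensor K (e₁ z) := by
    intro z
    induction z with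
    | zero => simp
    | add x y hx hy => simp only [map_add, hx, hy]
    | tmul k w =>
      induction w with
      | zero => simp
      | add x y hx hy => simp only [tmul_add, map_add, hx, hy]
      | tmul c ω =>
        simp [e₁, e₂, tensorKaehlerEquivOfFormallyEtale, smul_tmul', hc]
  have h : ⇑e₂ ∘ ⇑((mapBaseChange A B C).lTensor K) =
      ⇑((mapBaseChange A B L).lTensor K) ∘ ⇑e₁ := funext key
  rw [← e₂.injective.of_comp_iff, h, Function.Injective.of_comp_iff' _ e₁.bijective]

end Groth.Agent.Unram
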