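import Mathlib.RingTheory.Discriminant
import Mathlib.RingTheory.Etale.Field
import Mathlib.RingTheory.Etale.Descent
import Mathlib.RingTheory.Smooth.Fiber
import Mathlib.RingTheory.Kaehler.TensorProduct
import Mathlib.RingTheory.TensorProduct.Free
import Mathlib.RingTheory.LocalRing.Module
import Mathlib.FieldTheory.IsAlgClosed.AlgebraicClosure
import Mathlib.RingTheory.Flat.FaithfullyFlat.Basic
import Mathlib.RingTheory.Finiteness.ModuleFinitePresentation

set_option autoImplicit false

open scoped TensorProduct
open Module
open scoped Matrix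

universe u v

namespace Groth.Agent.Unram

variable {A : Type u} {B : Type v} [CommRing A] [CommRing B] [Algebra A B]
variable {ι : Type*} [Fintype ι] [DecidableEq ι]

lemma trace_baseChange (b : Basis ι A B) (R : Type*) [CommRing R] [Algebra A R] (x : B) :
    Algebra.trace R (R ⊗[A] B) (1 ⊗ₜ x) = algebraMap A R (Algebra.trace A B x) := by
  rw [Algebra.trace_eq_matrix_trace (Algebra.TensorProduct.basis R b),
    Algebra.trace_eq_matrix_trace b, Matrix.trace, Matrix.trace, map_sum]
  refine Finset.sum_congr rfl fun i _ => ?_
  simp [Matrix.diag, Algebra.leftMulMatrix_eq_repr_mul, Algebra.smul_def]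

lemma discr_baseChange (b : Basis ι A B) (R : Type*) [CommRing R] [Algebra A R] :
    Algebra.discr R (Algebra.TensorProduct.basis R b) = algebraMap A R (Algebra.discr A b) := by
  rw [Algebra.discr_def, Algebra.discr_def, RingHom.map_det]
  congr 1
  ext i j
  simp [Algebra.traceMatrix_apply, Algebra.traceForm_apply, trace_baseChange b R]

section AlgClosed

variable (K : Type u) (C : Type v) [Field K] [IsAlgClosed K] [CommRing C] [Algebra K C]
  [Module.Finite K C]

lemma formallyEtale_of_isReduced [IsReduced C] : Algebra.FormallyEtale K C := by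
  classical
  have : IsArtinianRing C := isArtinian_of_tower K inferInstance
  letI (m : MaximalSpectrum C) : Field (C ⧸ m.asIdeal) := Ideal.Quotient.field m.asIdeal
  rw [Algebra.FormallyEtale.iff_exists_algEquiv_prod]
  exact ⟨MaximalSpectrum C, inferInstance, fun m => C ⧸ m.asIdeal, inferInstance, inferInstance,
    (IsArtinianRing.equivPi C).restrictScalars K, fun m => inferInstance⟩

lemma exists_trace_eq_one [Algebra.FormallyEtale K C] [Nontrivial C] :
    ∃ c : C, Algebra.trace K C c = 1 := by
  classical
  have : IsArtinianRing C := isArtinian_of_tower K inferInstance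
  have : Fintype (PrimeSpectrum C) := Fintype.ofFinite _
  let e := Algebra.FormallyEtale.equivPiOfIsSepClosed K C
  obtain ⟨p⟩ : Nonempty (PrimeSpectrum C) := inferInstance
  refine ⟨e.symm (Pi.single p 1), ?_⟩
  rw [Algebra.trace_eq_of_algEquiv e.symm,
    Algebra.trace_eq_matrix_trace (Pi.basisFun K (PrimeSpectrum C))]
  simp [Matrix.trace, Matrix.diag, Algebra.leftMulMatrix_eq_repr_mul, Pi.single_apply, ite_mul]

lemma traceForm_nondegenerate_of_formallyEtale [Algebra.FormallyEtale K C] :
    (Algebra.traceForm K C).Nondegenerate := by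
  classical
  have : IsArtinianRing C := isArtinian_of_tower K inferInstance
  have : Fintype (PrimeSpectrum C) := Fintype.ofFinite _
  let e := Algebra.FormallyEtale.equivPiOfIsSepClosed K C
  suffices hl : ∀ x, (∀ y, Algebra.traceForm K C x y = 0) → x = 0 from
    ⟨hl, fun x hx => hl x fun y => by
      rw [Algebra.traceForm_apply, mul_comm, ← Algebra.traceForm_apply]; exact hx y⟩
  intro x hx
  apply e.injective
  ext p
  have h := hx (e.symm (Pi.single p 1))
  rw [Algebra.traceForm_apply, ← Algebra.trace_eq_of_algEquiv e,
    Algebra.trace_eq_matrix_trace (Pi.basisFun K (PrimeSpectrum C))] at h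
  simpa [Matrix.trace, Matrix.diag, Algebra.leftMulMatrix_eq_repr_mul, Pi.single_apply,
    ite_mul] using h

lemma isReduced_of_traceForm_nondegenerate (h : (Algebra.traceForm K C).Nondegenerate) :
    IsReduced C :=
  ⟨fun x hx => h.1 x fun y => (Algebra.isNilpotent_trace_of_isNilpotent
    ((Commute.all x y).isNilpotent_mul_right hx)).eq_zero⟩

end AlgClosed

section General

variable {A : Type u} {B : Type v} [CommRing A] [CommRing B] [Algebra A B]
variable {ι : Type*} [Fintype ι] [DecidableEq ι]

lemma isUnit_discr_of_etale (b : Basis ι A B) [Algebra.Etale A B] :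
    IsUnit (Algebra.discr A b) := by
  by_contra h
  obtain ⟨m, hm, hle⟩ := Ideal.exists_le_maximal (Ideal.span {Algebra.discr A b})
    (by rwa [Ne, Ideal.span_singleton_eq_top])
  let K := AlgebraicClosure m.ResidueField
  have : Module.Finite A B := .of_basis b
  have h0 : Algebra.discr K (Algebra.TensorProduct.basis K b) = 0 := by
    rw [discr_baseChange, IsScalarTower.algebraMap_apply A m.ResidueField K,
      Ideal.algebraMap_residueField_eq_zero.mpr (hle (Ideal.mem_span_singleton_self _)), map_zero]
  have hne := traceForm_nondegenerate_of_formallyEtale K (K ⊗[A] B)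
  rw [Algebra.discr_def, Algebra.traceMatrix_of_basis] at h0
  exact (LinearMap.BilinForm.nondegenerate_iff_det_ne_zero _).mp hne h0

lemma subsingleton_residueField_tensor_kaehler (p : Ideal A) [p.IsPrime]
    (h : Subsingleton Ω[(AlgebraicClosure p.ResidueField ⊗[A] B)⁄(AlgebraicClosure p.ResidueField)]) :
    Subsingleton (p.ResidueField ⊗[A] Ω[B⁄A]) := by
  by_contra hne
  rw [not_subsingleton_iff_nontrivial] at hne
  let K := AlgebraicClosure p.ResidueField
  letI : Algebra B (K ⊗[A] B) := Algebra.TensorProduct.rightAlgebra
  have e := (KaehlerDifferential.isBaseChange A K B (K ⊗[A] B)).equiv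
  have : Subsingleton (K ⊗[A] Ω[B⁄A]) := e.toEquiv.subsingleton
  have : Subsingleton (K ⊗[p.ResidueField] (p.ResidueField ⊗[A] Ω[B⁄A])) :=
    (TensorProduct.AlgebraTensorModule.cancelBaseChange A p.ResidueField K K Ω[B⁄A]).toEquiv.subsingleton
  have : Subsingleton (p.ResidueField ⊗[A] Ω[B⁄A]) :=
    Module.FaithfullyFlat.lTensor_reflects_triviality p.ResidueField K _
  exact not_subsingleton _ this

lemma formallyUnramified_of_forall_algClosure [Module.Finite A B]
    (h : ∀ (p : Ideal A) [p.IsPrime], Algebra.FormallyUnramified (AlgebraicClosure p.ResidueField)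
      (AlgebraicClosure p.ResidueField ⊗[A] B)) :
    Algebra.FormallyUnramified A B := by
  have : Module.Finite A Ω[B⁄A] := Module.Finite.trans B _
  refine ⟨Module.support_eq_empty_iff (R := A) |>.mp (Set.eq_empty_of_forall_notMem fun p hp => ?_)⟩
  rw [Module.mem_support_iff_nontrivial_residueField_tensorProduct] at hp
  exact not_subsingleton _ (subsingleton_residueField_tensor_kaehler p.asIdeal
    (h p.asIdeal).subsingleton_kaehlerDifferential)

lemma etale_of_isUnit_discr (b : Basis ι A B) (h : IsUnit (Algebra.discr A b)) :
    Algebra.Etale A B := by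
  have : Module.Finite A B := .of_basis b
  have : Module.Free A B := .of_basis b
  have : Module.FinitePresentation A B := Module.finitePresentation_of_projective A B
  have : Algebra.FinitePresentation A B := inferInstance
  have : Algebra.FormallyUnramified A B := by
    refine formallyUnramified_of_forall_algClosure fun p hp => ?_
    let K := AlgebraicClosure p.ResidueField
    have hne : (Algebra.traceForm K (K ⊗[A] B)).Nondegenerate := by
      rw [LinearMap.BilinForm.nondegenerate_iff_det_ne_zero (Algebra.TensorProduct.basis K b),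
        ← Algebra.traceMatrix_of_basis, ← Algebra.discr_def, discr_baseChange]
      exact (h.map _).ne_zero
    have := isReduced_of_traceForm_nondegenerate K (K ⊗[A] B) hne
    have := formallyEtale_of_isReduced K (K ⊗[A] B)
    infer_instance
  exact Algebra.Etale.of_formallyUnramified_of_flat

lemma etale_iff_isUnit_discr (b : Basis ι A B) :
    Algebra.Etale A B ↔ IsUnit (Algebra.discr A b) :=
  ⟨fun _ => isUnit_discr_of_etale b, etale_of_isUnit_discr b⟩

lemma etale_iff_bijective_traceForm [Module.Finite A B] [Module.Free A B] :
    Algebra.Etale A B ↔ Function.Bijective (Algebra.traceForm A B) := by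
  classical
  let b := Module.Free.chooseBasis A B
  rw [etale_iff_isUnit_discr b, Algebra.discr_def, Algebra.traceMatrix_of_basis]
  let f : B →ₗ[A] (B →ₗ[A] A) := Algebra.traceForm A B
  have hm : LinearMap.toMatrix b b.dualBasis f = (LinearMap.BilinForm.toMatrix b f)ᵀ := by
    ext i j
    simp [LinearMap.toMatrix_apply, LinearMap.BilinForm.toMatrix_apply, Basis.dualBasis_repr]
  have hdet : (LinearMap.toMatrix b b.dualBasis f).det = (LinearMap.BilinForm.toMatrix b f).det := by
    rw [hm, Matrix.det_transpose]
  change IsUnit (LinearMap.BilinForm.toMatrix b f).det ↔ Function.Bijective f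
  rw [← hdet]
  refine ⟨fun h => (LinearEquiv.ofIsUnitDet h).bijective, fun h => ?_⟩
  let e := LinearEquiv.ofBijective f h
  refine Matrix.isUnit_det_of_right_inverse
    (B := LinearMap.toMatrix b.dualBasis b e.symm.toLinearMap) ?_
  rw [← LinearMap.toMatrix_comp]
  convert LinearMap.toMatrix_id b.dualBasis
  exact LinearMap.ext e.apply_symm_apply

lemma trace_surjective_of_etale [Module.Finite A B] [Module.Free A B] [Algebra.Etale A B]
    [Module.FaithfullyFlat A B] : Function.Surjective (Algebra.trace A B) := by
  classical
  let b := Module.Free.chooseBasis A B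
  rw [← LinearMap.range_eq_top]
  by_contra h
  obtain ⟨m, hm, hle⟩ := Ideal.exists_le_maximal _ h
  let K := AlgebraicClosure m.ResidueField
  have : Nontrivial (K ⊗[A] B) := (TensorProduct.comm A B K).symm.toEquiv.nontrivial
  obtain ⟨c, hc⟩ := exists_trace_eq_one K (K ⊗[A] B)
  have : ∀ c : K ⊗[A] B, Algebra.trace K (K ⊗[A] B) c = 0 := by
    intro c
    induction c using TensorProduct.induction_on with
    | zero => simp
    | add x y hx hy => simp [hx, hy]
    | tmul r x =>
      rw [show r ⊗ₜ[A] x = r • ((1 : K) ⊗ₜ[A] x) by simp [TensorProduct.smul_tmul'],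
        map_smul, trace_baseChange b, IsScalarTower.algebraMap_apply A m.ResidueField K,
        Ideal.algebraMap_residueField_eq_zero.mpr (hle (LinearMap.mem_range_self _ x)), map_zero,
        smul_zero]
  exact one_ne_zero (hc.symm.trans (this c))

lemma formallyUnramified_of_closedFibre [IsLocalRing A] [Module.Finite A B]
    [h : Algebra.FormallyUnramified (IsLocalRing.ResidueField A)
      (IsLocalRing.ResidueField A ⊗[A] B)] : Algebra.FormallyUnramified A B := by
  have : Module.Finite A Ω[B⁄A] := Module.Finite.trans B _
  letI : Algebra B (IsLocalRing.ResidueField A ⊗[A] B) := Algebra.TensorProduct.rightAlgebra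
  have e := (KaehlerDifferential.isBaseChange A (IsLocalRing.ResidueField A) B
    (IsLocalRing.ResidueField A ⊗[A] B)).equiv
  have : Subsingleton Ω[(IsLocalRing.ResidueField A ⊗[A] B)⁄(IsLocalRing.ResidueField A)] :=
    h.subsingleton_kaehlerDifferential
  exact ⟨IsLocalRing.subsingleton_tensorProduct.mp e.toEquiv.subsingleton⟩

end General

end Groth.Agent.Unram
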