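import Mathlib.RingTheory.RingHom.Smooth
import Mathlib.RingTheory.RingHom.Unramified
import Mathlib.RingTheory.Smooth.Basic
import Mathlib.RingTheory.Unramified.Basic
import Mathlib.RingTheory.Etale.Basic
import Mathlib.Algebra.TrivSqZeroExt.Basic
import Mathlib.RingTheory.LocalRing.RingHom.Basic
import Mathlib.RingTheory.Localization.AtPrime.Basic
import Mathlib.RingTheory.Smooth.Local
import Mathlib.AlgebraicGeometry.Stalk

set_option autoImplicit false

open CategoryTheory AlgebraicGeometry

universe u

namespace Groth.Agent.Unram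

section Ring

variable {A R : Type u} [CommRing A] [CommRing R] [IsLocalRing R] (f : A →+* R)

/-- Formal smoothness of a map to a local ring can be tested on local test rings. -/
lemma formallySmooth_iff_lift_local :
    f.FormallySmooth ↔
      ∀ (B B' : Type u) [CommRing B] [CommRing B'] [IsLocalRing B] [IsLocalRing B'] (φ : B' →+* B),
        Function.Surjective φ → RingHom.ker φ ^ 2 = ⊥ →
        ∀ (a : R →+* B) (b : A →+* B'), IsLocalHom a → φ.comp b = a.comp f →
          ∃ c : R →+* B', φ.comp c = a ∧ c.comp f = b := by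
  algebraize [f]
  rw [show f = algebraMap A R from rfl, RingHom.formallySmooth_algebraMap]
  constructor
  · intro h B B' _ _ _ _ φ hφ hker a b _ hc
    let := b.toAlgebra
    let := (a.comp (algebraMap A R)).toAlgebra
    let g : B' →ₐ[A] B := { φ with commutes' := fun r => RingHom.congr_fun hc r }
    let a' : R →ₐ[A] B := { a with commutes' := fun r => rfl }
    have hn : IsNilpotent (RingHom.ker (g : B' →+* B)) := ⟨2, hker⟩
    refine ⟨(Algebra.FormallySmooth.liftOfSurjective a' g hφ hn).toRingHom, ?_, ?_⟩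
    · exact RingHom.ext fun x => Algebra.FormallySmooth.liftOfSurjective_apply a' g hφ hn x
    · exact AlgHom.comp_algebraMap _
  · intro H
    let π : MvPolynomial R A →ₐ[A] R := MvPolynomial.aeval id
    let P : Ideal (MvPolynomial R A) := (IsLocalRing.maximalIdeal R).comap π
    have hπ : ∀ y : P.primeCompl, IsUnit (π y) := fun y =>
      IsLocalRing.notMem_maximalIdeal.mp y.2
    let ψ : Localization.AtPrime P →ₐ[A] R := IsLocalization.liftAlgHom (M := P.primeCompl) hπ
    have hψ : Function.Surjective ψ := fun x =>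
      ⟨algebraMap _ _ (MvPolynomial.X (R := A) x), by simp [ψ, π]⟩
    let I := RingHom.ker ψ.toRingHom
    have hI : I ≠ ⊤ := RingHom.ker_ne_top _
    have : Algebra.FormallyEtale (MvPolynomial R A) (Localization.AtPrime P) :=
      .of_isLocalization P.primeCompl
    have : Algebra.FormallySmooth A (Localization.AtPrime P) :=
      .comp A (MvPolynomial R A) _
    have : Nontrivial (Localization.AtPrime P ⧸ I ^ 2) :=
      Ideal.Quotient.nontrivial_iff.mpr (ne_top_of_le_ne_top hI (Ideal.pow_le_self two_ne_zero))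
    have : IsLocalRing (Localization.AtPrime P ⧸ I ^ 2) :=
      .of_surjective' _ Ideal.Quotient.mk_surjective
    obtain ⟨c, hc₁, hc₂⟩ := H R (Localization.AtPrime P ⧸ I ^ 2) ψ.kerSquareLift.toRingHom
      (fun x => by
        obtain ⟨y, rfl⟩ := hψ x
        exact ⟨Ideal.Quotient.mk _ y, rfl⟩)
      (by
        rw [← le_bot_iff, ← Ideal.cotangentIdeal_square (RingHom.ker ψ.toRingHom)]
        exact pow_le_pow_left' (AlgHom.ker_kerSquareLift ψ).le 2)
      (RingHom.id R) (algebraMap A _) inferInstance
      (AlgHom.comp_algebraMap ψ.kerSquareLift)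
    exact Algebra.FormallySmooth.of_split ψ
      { c with commutes' := fun r => RingHom.congr_fun hc₂ r }
      (AlgHom.ext fun x => RingHom.congr_fun hc₁ x)

/-- Formal unramifiedness of a map to a local ring can be tested on local test rings. -/
lemma formallyUnramified_iff_lift_local :
    f.FormallyUnramified ↔
      ∀ (B B' : Type u) [CommRing B] [CommRing B'] [IsLocalRing B] [IsLocalRing B'] (φ : B' →+* B),
        Function.Surjective φ → RingHom.ker φ ^ 2 = ⊥ →
        ∀ c₁ c₂ : R →+* B', IsLocalHom (φ.comp c₁) → φ.comp c₁ = φ.comp c₂ →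
          c₁.comp f = c₂.comp f → c₁ = c₂ := by
  algebraize [f]
  rw [show f = algebraMap A R from rfl, RingHom.formallyUnramified_algebraMap]
  constructor
  · intro h B B' _ _ _ _ φ hφ hker c₁ c₂ _ h₁ h₂
    let := (c₁.comp (algebraMap A R)).toAlgebra
    let g₁ : R →ₐ[A] B' := { c₁ with commutes' := fun r => rfl }
    let g₂ : R →ₐ[A] B' := { c₂ with commutes' := fun r => (RingHom.congr_fun h₂ r).symm }
    exact congr(AlgHom.toRingHom
      $(Algebra.FormallyUnramified.lift_unique_of_ringHom φ ⟨2, hker⟩ g₁ g₂ h₁))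
  · intro H
    refine ⟨subsingleton_of_forall_eq 0 fun ω => ?_⟩
    let : Module Rᵐᵒᵖ (KaehlerDifferential A R) :=
      Module.compHom _ ((RingHom.id R).fromOpposite mul_comm)
    have : IsCentralScalar R (KaehlerDifferential A R) := ⟨fun _ _ => rfl⟩
    let φ := (TrivSqZeroExt.fstHom R R (KaehlerDifferential A R)).toRingHom
    have : IsLocalHom φ := ⟨fun x hx => TrivSqZeroExt.isUnit_iff_isUnit_fst.mpr hx⟩
    have : IsLocalRing (TrivSqZeroExt R (KaehlerDifferential A R)) :=
      RingHom.domain_isLocalRing φ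
    let c₂ : R →+* TrivSqZeroExt R (KaehlerDifferential A R) :=
      { toFun r := TrivSqZeroExt.inl r + TrivSqZeroExt.inr (KaehlerDifferential.D A R r)
        map_one' := by ext <;> simp
        map_mul' x y := by ext <;> simp [op_smul_eq_smul, add_comm]
        map_zero' := by ext <;> simp
        map_add' x y := by ext <;> simp }
    have hc : φ.comp (TrivSqZeroExt.inlHom R (KaehlerDifferential A R)) = RingHom.id R :=
      RingHom.ext fun x => rfl
    have hker : RingHom.ker φ ^ 2 = ⊥ := by
      rw [pow_two, ← le_bot_iff, Ideal.mul_le]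
      intro x (hx : x.fst = 0) y (hy : y.fst = 0)
      rw [Ideal.mem_bot]
      ext <;> simp [hx, hy]
    have := H R _ φ (fun x => ⟨TrivSqZeroExt.inl x, rfl⟩) hker
      (TrivSqZeroExt.inlHom R _) c₂ (hc ▸ inferInstance)
      (RingHom.ext fun x => by simp [φ, c₂]) (RingHom.ext fun x => by ext <;> simp [c₂])
    suffices hD : ∀ x, KaehlerDifferential.D A R x = 0 by
      have : ω ∈ Submodule.span R (Set.range (KaehlerDifferential.D A R)) :=
        KaehlerDifferential.span_range_derivation A R ▸ trivial
      rwa [Submodule.span_eq_bot.mpr (by rintro _ ⟨x, rfl⟩; exact hD x),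
        Submodule.mem_bot] at this
    intro x
    simpa [c₂] using congr(TrivSqZeroExt.snd ($this x)).symm

end Ring

section Scheme

variable {X : Scheme.{u}} (x : X) (B : Type u) [CommRing B] [IsLocalRing B]

lemma exists_stalk_fac (α : Spec (.of B) ⟶ X) (hα : α (IsLocalRing.closedPoint B) = x) :
    ∃ a : X.presheaf.stalk x ⟶ .of B, IsLocalHom a.hom ∧
      Spec.map a ≫ X.fromSpecStalk x = α := by
  subst hα
  exact ⟨Scheme.stalkClosedPointTo α, inferInstance, Scheme.Spec_stalkClosedPointTo_fromSpecStalk α⟩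

lemma stalk_fac_closedPoint (a : X.presheaf.stalk x ⟶ .of B) [IsLocalHom a.hom] :
    (Spec.map a ≫ X.fromSpecStalk x) (IsLocalRing.closedPoint B) = x := by
  rw [Scheme.Hom.comp_apply, Spec_closedPoint, Scheme.fromSpecStalk_closedPoint]

variable {B}

lemma stalk_fac_injective {R : CommRingCat.{u}} {a b : X.presheaf.stalk x ⟶ R}
    (h : Spec.map a ≫ X.fromSpecStalk x = Spec.map b ≫ X.fromSpecStalk x) : a = b :=
  Spec.map_injective ((cancel_mono _).mp h)

end Scheme

end Groth.Agent.Unram

namespace Groth.Agent.Unram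

section Points

variable {X Y : Scheme.{u}} {B B' : Type u} [CommRing B] [CommRing B'] [IsLocalRing B]
  [IsLocalRing B'] {φ : B' →+* B}

lemma closedPoint_of_comm (hφ : Function.Surjective φ) (f : X ⟶ Y)
    (α : Spec (.of B) ⟶ X) (β : Spec (.of B') ⟶ Y)
    (h : Spec.map (CommRingCat.ofHom φ) ≫ β = α ≫ f) :
    β (IsLocalRing.closedPoint B') = f (α (IsLocalRing.closedPoint B)) := by
  have : IsLocalHom (CommRingCat.ofHom φ).hom := IsLocalHom.of_surjective φ hφ
  rw [← Scheme.Hom.comp_apply, ← h, Scheme.Hom.comp_apply, Spec_closedPoint]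

lemma stalk_fac_comm_iff {x : X} (f : X ⟶ Y) (a : X.presheaf.stalk x ⟶ .of B)
    (b : Y.presheaf.stalk (f x) ⟶ .of B') :
    Spec.map (CommRingCat.ofHom φ) ≫ Spec.map b ≫ Y.fromSpecStalk (f x) =
        (Spec.map a ≫ X.fromSpecStalk x) ≫ f ↔
      φ.comp b.hom = a.hom.comp (f.stalkMap x).hom := by
  rw [Category.assoc, ← Scheme.SpecMap_stalkMap_fromSpecStalk, ← Spec.map_comp_assoc,
    ← Spec.map_comp_assoc]
  exact ⟨fun h => congr(CommRingCat.Hom.hom $(stalk_fac_injective _ h)),
    fun h => by congr 2; exact CommRingCat.hom_ext h⟩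

end Points

end Groth.Agent.Unram
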