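import Mathlib.AlgebraicGeometry.Morphisms.FormallyUnramified
import Mathlib.AlgebraicGeometry.Morphisms.Separated
import Mathlib.AlgebraicGeometry.Fiber

set_option autoImplicit false

open CategoryTheory CategoryTheory.Limits AlgebraicGeometry

universe u

namespace Groth.Agent.Unram

variable {X Y S : Scheme.{u}} (h : Y ⟶ S) (f g : X ⟶ Y) (w : g ≫ h = f ≫ h)

/-- The inclusion of the locus of agreement of two morphisms over a base. -/
noncomputable abbrev agreeι :
    pullback (pullback.lift f g w.symm) (pullback.diagonal h) ⟶ X :=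
  pullback.fst _ _

lemma agreeι_comp : agreeι h f g w ≫ f = agreeι h f g w ≫ g := by
  have h₁ := congrArg (· ≫ pullback.fst h h) (pullback.condition (f := pullback.lift f g w.symm)
    (g := pullback.diagonal h))
  have h₂ := congrArg (· ≫ pullback.snd h h) (pullback.condition (f := pullback.lift f g w.symm)
    (g := pullback.diagonal h))
  simp only [Category.assoc, pullback.lift_fst, pullback.diagonal_fst] at h₁
  simp only [Category.assoc, pullback.lift_snd, pullback.diagonal_snd] at h₂
  exact h₁.trans h₂.symm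

lemma mem_range_agreeι {W : Scheme.{u}} (a : W ⟶ X) (ha : a ≫ f = a ≫ g) (p : W) :
    a p ∈ Set.range (agreeι h f g w) := by
  refine ⟨pullback.lift a (a ≫ f) ?_ p, ?_⟩
  · apply pullback.hom_ext
    · simp only [Category.assoc, pullback.lift_fst, pullback.diagonal_fst, Category.comp_id]
    · simp only [Category.assoc, pullback.lift_snd, pullback.diagonal_snd, Category.comp_id]
      exact ha.symm
  · rw [← Scheme.Hom.comp_apply, pullback.lift_fst]

lemma eq_on_nhd_of_fibre [IsOpenImmersion (agreeι h f g w)]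
    (V : S.Opens) (hV : ∀ x, (f ≫ h) x ∈ V → x ∈ Set.range (agreeι h f g w)) :
    ((f ≫ h) ⁻¹ᵁ V).ι ≫ f = ((f ≫ h) ⁻¹ᵁ V).ι ≫ g := by
  have hr : Set.range ((f ≫ h) ⁻¹ᵁ V).ι ⊆ Set.range (agreeι h f g w) := by
    rw [Scheme.Opens.range_ι]; exact fun x hx => hV x hx
  rw [← IsOpenImmersion.lift_fac (agreeι h f g w) _ hr, Category.assoc, Category.assoc,
    agreeι_comp]

lemma fibre_subset_agree (s : S) (hs : (f ≫ h).fiberι s ≫ f = (f ≫ h).fiberι s ≫ g)
    (x : X) (hx : (f ≫ h) x = s) : x ∈ Set.range (agreeι h f g w) := by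
  obtain ⟨x', rfl⟩ : x ∈ Set.range ((f ≫ h).fiberι s) := by
    rw [Scheme.Hom.range_fiberι]; exact hx
  exact mem_range_agreeι h f g w _ hs x'

end Groth.Agent.Unram
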