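import Groth.Agent.Unram.Mono
import Mathlib.AlgebraicGeometry.Morphisms.Etale
import Mathlib.AlgebraicGeometry.Morphisms.FlatMono
import Mathlib.AlgebraicGeometry.Morphisms.ClosedImmersion

set_option autoImplicit false

open CategoryTheory CategoryTheory.Limits AlgebraicGeometry

universe u

namespace Groth.Agent.Unram

variable {X' S' S'₀ : Scheme.{u}} (q : X' ⟶ S') [Etale q] (i : S'₀ ⟶ S') [IsClosedImmersion i]
  [Surjective i]

/-- Sections of an etale morphism extend uniquely along surjective closed immersions. -/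
theorem existsUnique_section (s₀ : S'₀ ⟶ X') (h₀ : s₀ ≫ q = i) :
    ∃! t : S' ⟶ X', t ≫ q = 𝟙 S' ∧ i ≫ t = s₀ := by
  let X₀ := pullback q i
  let j : X₀ ⟶ X' := pullback.fst q i
  let σ : S'₀ ⟶ X₀ := pullback.lift s₀ (𝟙 _) (by rw [h₀, Category.id_comp])
  have hσ : σ ≫ pullback.snd q i = 𝟙 _ := pullback.lift_snd _ _ _
  have : Etale (σ ≫ pullback.snd q i) := by rw [hσ]; infer_instance
  have : Etale σ := Etale.of_comp σ (pullback.snd q i)
  have : IsSplitMono σ := IsSplitMono.mk' ⟨_, hσ⟩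
  have : IsOpenImmersion σ := IsOpenImmersion.of_flat_of_mono σ
  have hjσ : σ ≫ j = s₀ := pullback.lift_fst _ _ _
  have hhom : IsHomeomorph j :=
    isHomeomorph_iff_isEmbedding_surjective.mpr ⟨j.isEmbedding, j.surjective⟩
  let W : X'.Opens := ⟨Set.range s₀, by
    rw [← hjσ, show Set.range (σ ≫ j) = j '' Set.range σ by
      rw [← Set.range_comp]; rfl]
    exact hhom.isOpenMap _ σ.isOpenEmbedding.isOpen_range⟩
  let s₁ : S'₀ ⟶ W.toScheme := IsOpenImmersion.lift W.ι s₀ (by rw [Scheme.Opens.range_ι]; rfl)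
  have hs₁ : s₁ ≫ W.ι = s₀ := IsOpenImmersion.lift_fac _ _ _
  let q' := W.ι ≫ q
  have hq' : s₁ ≫ q' = i := by rw [← Category.assoc, hs₁, h₀]
  have hsurj : ∀ w, ∃ a, s₁ a = w := fun w => by
    obtain ⟨a, ha⟩ : W.ι w ∈ Set.range s₀ := w.2
    refine ⟨a, W.ι.isOpenEmbedding.injective ?_⟩
    rw [← Scheme.Hom.comp_apply, hs₁, ha]
  have : Mono q' := by
    rw [mono_iff_injective_and_stalk]
    refine ⟨fun w₁ w₂ e => ?_, fun w => ⟨FormallyUnramified.stalkMap q' w, ?_⟩⟩
    · obtain ⟨a₁, rfl⟩ := hsurj w₁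
      obtain ⟨a₂, rfl⟩ := hsurj w₂
      rw [← Scheme.Hom.comp_apply, ← Scheme.Hom.comp_apply, hq'] at e
      rw [i.isEmbedding.injective e]
    · obtain ⟨a, rfl⟩ := hsurj w
      have h : Function.Surjective ((s₁ ≫ q').residueFieldMap a).hom := by
        have : SurjectiveOnStalks (s₁ ≫ q') := hq' ▸ inferInstance
        exact Ideal.Quotient.lift_surjective_of_surjective _ _
          (Ideal.Quotient.mk_surjective.comp ((s₁ ≫ q').stalkMap_surjective a))
      rw [Scheme.residueFieldMap_comp] at h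
      intro z
      obtain ⟨y, hy⟩ := h ((s₁.residueFieldMap a).hom z)
      exact ⟨y, (s₁.residueFieldMap a).hom.injective hy⟩
  have : IsOpenImmersion q' := IsOpenImmersion.of_flat_of_mono q'
  have hrange : Set.range q' = Set.univ := Set.eq_univ_of_forall fun x => by
    obtain ⟨a, rfl⟩ := i.surjective x
    exact ⟨s₁ a, by rw [← Scheme.Hom.comp_apply, hq']⟩
  have : IsIso q' := isIso_of_isOpenImmersion_of_opensRange_eq_top _
    (TopologicalSpace.Opens.ext hrange)
  refine ⟨inv q' ≫ W.ι, ⟨by rw [Category.assoc]; exact IsIso.inv_hom_id q', ?_⟩, ?_⟩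
  · rw [← hs₁, ← Category.assoc]
    congr 1
    rw [IsIso.comp_inv_eq, hq']
  · rintro t ⟨ht, hit⟩
    have hW : Set.range t ⊆ Set.range W.ι := by
      rintro _ ⟨x, rfl⟩
      obtain ⟨a, rfl⟩ := i.surjective x
      rw [Scheme.Opens.range_ι, ← Scheme.Hom.comp_apply, hit]
      exact ⟨a, rfl⟩
    rw [← IsOpenImmersion.lift_fac W.ι t hW]
    congr 1
    rw [← cancel_mono q', IsIso.inv_hom_id]
    rw [← Category.assoc, IsOpenImmersion.lift_fac, ht]

end Groth.Agent.Unram
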