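import Groth.Prelude.Def_Omega3
import Mathlib.RingTheory.Kaehler.Polynomial
import Mathlib.RingTheory.Unramified.Basic

set_option autoImplicit false

open TensorProduct KaehlerDifferential MvPolynomial

universe u

namespace Groth.Agent.Unram

variable (R S : Type u) [CommRing R] [CommRing S] [Algebra R S] [Algebra.FormallyUnramified R S]

/-- Universal first order thickening of a formally unramified algebra. -/
theorem exists_univThickeningRing :
    ∃ (S' : Type u) (_ : CommRing S') (_ : Algebra R S') (π : S' →ₐ[R] S),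
      OmegaSh.IsUnivThickeningRing R S S' π := by
  classical
  let P := MvPolynomial S R
  let φ : P →ₐ[R] S := aeval id
  let : Algebra P S := φ.toRingHom.toAlgebra
  have : IsScalarTower R P S := IsScalarTower.of_algebraMap_eq (R := R) (S := P) (A := S)
    fun r => (φ.commutes r).symm
  have hsurj : Function.Surjective (algebraMap P S) := fun x =>
    ⟨MvPolynomial.X x, aeval_X (id : S → S) x⟩
  let J : Ideal P := RingHom.ker (algebraMap P S)
  let b := KaehlerDifferential.mvPolynomialBasis R S
  have hg : ∀ x : S, ∃ g ∈ J, ∀ y, b.repr (D R P g - D R P (MvPolynomial.X x)) y ∈ J := by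
    intro x
    obtain ⟨c, hc⟩ : (1 : S) ⊗ₜ[P] D R P (MvPolynomial.X x) ∈
        LinearMap.range (kerCotangentToTensor R P S) := by
      rw [range_kerCotangentToTensor R P S hsurj]
      exact Subsingleton.elim _ _
    obtain ⟨⟨g, hg⟩, rfl⟩ := Ideal.toCotangent_surjective _ c
    refine ⟨g, hg, fun y => ?_⟩
    rw [kerCotangentToTensor_toCotangent] at hc
    have := congrArg (fun z => (b.baseChange S).repr z y) hc
    replace this := (Module.Basis.baseChange_repr_tmul S b _ _ y).symm.trans
      (this.trans (Module.Basis.baseChange_repr_tmul S b _ _ y))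
    rw [Algebra.smul_def, Algebra.smul_def, mul_one, mul_one] at this
    rw [RingHom.mem_ker, map_sub, Finsupp.sub_apply, map_sub, this, sub_self]
  choose g hgJ hgD using hg
  let K : Ideal P := J ^ 2 ⊔ Ideal.span (Set.range g)
  have hKJ : K ≤ J := sup_le (Ideal.pow_le_self two_ne_zero)
    (Ideal.span_le.mpr (by rintro _ ⟨x, rfl⟩; exact hgJ x))
  let π : P ⧸ K →ₐ[R] S := Ideal.Quotient.liftₐ K φ fun z hz => hKJ hz
  refine ⟨P ⧸ K, inferInstance, inferInstance, π, ?_, ?_, ?_⟩
  · intro x
    obtain ⟨p, hp⟩ := hsurj x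
    exact ⟨Ideal.Quotient.mk K p, hp⟩
  · have hker : RingHom.ker π.toRingHom ≤ J.map (Ideal.Quotient.mk K) := fun z hz => by
      obtain ⟨p, rfl⟩ := Ideal.Quotient.mk_surjective z
      exact Ideal.mem_map_of_mem _ hz
    rw [← le_bot_iff]
    refine (pow_le_pow_left' hker 2).trans ?_
    rw [← Ideal.map_pow, Ideal.map_le_iff_le_comap]
    intro z hz
    rw [Ideal.mem_comap, Ideal.mem_bot, Ideal.Quotient.eq_zero_iff_mem]
    exact Ideal.mem_sup_left hz
  · intro A _ _ I hI a
    have hII : ∀ u ∈ I, ∀ v ∈ I, u * v = 0 := fun u hu v hv => by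
      rw [← Ideal.mem_bot, ← hI, pow_two]; exact Ideal.mul_mem_mul hu hv
    choose c hc using fun x : S => Ideal.Quotient.mk_surjective (a x)
    let a₀ : P →ₐ[R] A := aeval c
    have ha₀ : (Ideal.Quotient.mkₐ R I).comp a₀ = a.comp φ :=
      MvPolynomial.algHom_ext fun x => by simp [a₀, φ, hc]
    have hJI : ∀ j ∈ J, a₀ j ∈ I := fun j hj => by
      rw [← Ideal.Quotient.eq_zero_iff_mem, ← Ideal.Quotient.mkₐ_eq_mk R]
      exact (AlgHom.congr_fun ha₀ j).trans ((congrArg a hj).trans (map_zero a))
    let : Algebra P A := a₀.toRingHom.toAlgebra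
    let θ : S → A := fun x => - a₀ (g x)
    have hθ : ∀ x, θ x ∈ I := fun x => neg_mem (hJI _ (hgJ x))
    let L : Ω[P⁄R] →ₗ[P] A := b.constr ℕ θ
    have hL : ∀ ω, L ω = (b.repr ω).sum fun y q => a₀ q * θ y := fun ω =>
      Module.Basis.constr_apply b ℕ θ ω
    have hLI : ∀ ω, L ω ∈ I := fun ω => by
      rw [hL]; exact Ideal.sum_mem _ fun y _ => I.mul_mem_left _ (hθ y)
    let a₁ : P →ₐ[R] A := aeval fun x => c x + θ x
    have hTaylor : ∀ p, a₁ p = a₀ p + L (D R P p) := by
      intro p
      induction p using MvPolynomial.induction_on with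
      | C r =>
        rw [← MvPolynomial.algebraMap_eq, Derivation.map_algebraMap, map_zero, add_zero,
          AlgHom.commutes, AlgHom.commutes]
      | add p q hp hq => simp only [map_add, hp, hq]; abel
      | mul_X p x hp =>
        have hX : L (D R P (MvPolynomial.X x)) = θ x := by
          rw [← KaehlerDifferential.mvPolynomialBasis_apply]; exact b.constr_basis ℕ θ x
        rw [map_mul, map_mul, hp, Derivation.leibniz, map_add, map_smul, map_smul, hX,
          show a₁ (MvPolynomial.X x) = c x + θ x from aeval_X _ x,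
          show a₀ (MvPolynomial.X x) = c x from aeval_X _ x,
          show ∀ v : A, p • v = a₀ p * v from fun v => rfl,
          show ∀ v : A, (MvPolynomial.X x : P) • v = c x * v from
            fun v => congrArg (· * v) (aeval_X c x)]
        linear_combination hII _ (hLI (D R P p)) _ (hθ x)
    have hJK : ∀ z ∈ J, ∀ w ∈ J, a₁ (z * w) = 0 := fun z hz w hw => by
      rw [map_mul, hTaylor, hTaylor]
      exact hII _ (add_mem (hJI z hz) (hLI _)) _ (add_mem (hJI w hw) (hLI _))
    have hg₁ : ∀ x, a₁ (g x) = 0 := by
      intro x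
      have h0 : L (D R P (g x) - D R P (MvPolynomial.X x)) = 0 := by
        rw [hL]
        exact Finset.sum_eq_zero fun y _ => hII _ (hJI _ (hgD x y)) _ (hθ y)
      rw [map_sub, sub_eq_zero] at h0
      rw [hTaylor, h0, ← KaehlerDifferential.mvPolynomialBasis_apply,
        show L (b x) = θ x from b.constr_basis ℕ θ x]
      exact add_neg_cancel _
    have hK : ∀ z ∈ K, a₁ z = 0 := by
      suffices K ≤ RingHom.ker a₁ from fun z hz => this hz
      refine sup_le ?_ (Ideal.span_le.mpr (by rintro _ ⟨x, rfl⟩; exact hg₁ x))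
      rw [pow_two, Ideal.mul_le]
      exact fun z hz w hw => hJK z hz w hw
    refine ⟨Ideal.Quotient.liftₐ K a₁ hK, ?_, ?_⟩
    · refine Ideal.Quotient.algHom_ext R (MvPolynomial.algHom_ext fun x => ?_)
      change Ideal.Quotient.mk I (a₁ (MvPolynomial.X x)) = a (φ (MvPolynomial.X x))
      rw [show a₁ (MvPolynomial.X x) = c x + θ x from aeval_X _ x,
        show φ (MvPolynomial.X x) = x from aeval_X _ x, map_add, hc,
        Ideal.Quotient.eq_zero_iff_mem.mpr (hθ x), add_zero]
    · intro a' ha'
      refine Ideal.Quotient.algHom_ext R (MvPolynomial.algHom_ext fun x => ?_)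
      let a₂ : P →ₐ[R] A := a'.comp (Ideal.Quotient.mkₐ R K)
      let θ' : S → A := fun x => a₂ (MvPolynomial.X x) - c x
      have hθ' : ∀ x, θ' x ∈ I := fun x => by
        rw [← Ideal.Quotient.eq]
        refine (AlgHom.congr_fun ha' (Ideal.Quotient.mk K (MvPolynomial.X x))).trans ?_
        rw [hc]
        exact congrArg a (aeval_X id x)
      let L' : Ω[P⁄R] →ₗ[P] A := b.constr ℕ θ'
      have hTaylor' : ∀ p, a₂ p = a₀ p + L' (D R P p) ∧ L' (D R P p) ∈ I := by
        intro p
        induction p using MvPolynomial.induction_on with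
        | C r =>
          rw [← MvPolynomial.algebraMap_eq, Derivation.map_algebraMap, map_zero, add_zero,
            AlgHom.commutes, AlgHom.commutes]
          exact ⟨rfl, I.zero_mem⟩
        | add p q hp hq =>
          refine ⟨?_, ?_⟩
          · simp only [map_add, hp.1, hq.1]; abel
          · simp only [map_add]; exact add_mem hp.2 hq.2
        | mul_X p x hp =>
          have hX : L' (D R P (MvPolynomial.X x)) = θ' x := by
            rw [← KaehlerDifferential.mvPolynomialBasis_apply]; exact b.constr_basis ℕ θ' x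
          rw [map_mul, map_mul, hp.1, Derivation.leibniz, map_add, map_smul, map_smul, hX,
            show a₂ (MvPolynomial.X x) = c x + θ' x from (add_sub_cancel _ _).symm,
            show a₀ (MvPolynomial.X x) = c x from aeval_X _ x,
            show ∀ v : A, p • v = a₀ p * v from fun v => rfl,
            show ∀ v : A, (MvPolynomial.X x : P) • v = c x * v from
              fun v => congrArg (· * v) (aeval_X c x)]
          exact ⟨by linear_combination hII _ hp.2 _ (hθ' x),
            add_mem (I.mul_mem_left _ (hθ' x)) (I.mul_mem_left _ hp.2)⟩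
      have h0 : L' (D R P (g x) - D R P (MvPolynomial.X x)) = 0 := by
        rw [show L' (D R P (g x) - D R P (MvPolynomial.X x)) = _ from
          Module.Basis.constr_apply b ℕ θ' _]
        exact Finset.sum_eq_zero fun y _ => hII _ (hJI _ (hgD x y)) _ (hθ' y)
      rw [map_sub, sub_eq_zero] at h0
      have hgx : a₂ (g x) = 0 := by
        change a' (Ideal.Quotient.mk K (g x)) = 0
        rw [Ideal.Quotient.eq_zero_iff_mem.mpr (Ideal.mem_sup_right (Ideal.subset_span (Set.mem_range_self x))),
          map_zero]
      rw [(hTaylor' (g x)).1, h0, ← KaehlerDifferential.mvPolynomialBasis_apply,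
        show L' (b x) = θ' x from b.constr_basis ℕ θ' x] at hgx
      change a₂ (MvPolynomial.X x) = a₁ (MvPolynomial.X x)
      rw [show a₁ (MvPolynomial.X x) = c x + θ x from aeval_X _ x]
      linear_combination (norm := (simp only [θ, θ']; abel)) hgx

end Groth.Agent.Unram
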