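import Groth.Prelude.Def_Omega3
import Mathlib.RingTheory.Unramified.Basic
import Mathlib.RingTheory.Kaehler.Basic
import Mathlib.Algebra.TrivSqZeroExt.Basic

set_option autoImplicit false

open TensorProduct KaehlerDifferential

universe u

namespace Groth.Agent.Unram

variable {A B' B : Type u} [CommRing A] [CommRing B'] [CommRing B] [Algebra A B'] [Algebra A B]

/-- Uniqueness of lifts to square-zero extensions of `B` forces `A → B'` to be formally unramified. -/
theorem formallyUnramified_of_lift_unique (π : B' →ₐ[A] B) (hπ : Function.Surjective π)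
    (hK : RingHom.ker π.toRingHom ^ 2 = ⊥)
    (H : ∀ (C : Type u) [CommRing C] [Algebra A C] (I : Ideal C), I ^ 2 = ⊥ →
      ∀ (a : B →ₐ[A] C ⧸ I) (g₁ g₂ : B' →ₐ[A] C), (Ideal.Quotient.mkₐ A I).comp g₁ = a.comp π →
        (Ideal.Quotient.mkₐ A I).comp g₂ = a.comp π → g₁ = g₂) :
    Algebra.FormallyUnramified A B' := by
  let L := KaehlerDifferential.ideal A B'
  let μ : B' ⊗[A] B' →ₐ[A] B' := Algebra.TensorProduct.lmul' A
  let J : Ideal (B' ⊗[A] B') := RingHom.ker (π.comp μ)
  let Q := J * L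
  have hLJ : L ≤ J := fun x hx => (congrArg π hx).trans (map_zero π)
  have hJJ : J * J ≤ Q := Ideal.mul_le.mpr fun x hx y hy => by
    have hl : ∀ z, z - μ z ⊗ₜ[A] (1 : B') ∈ L := fun z => by
      change μ _ = 0
      simp [μ]
    have hy' : μ y ⊗ₜ[A] (1 : B') ∈ J := by
      change π (μ _) = 0
      replace hy : π (μ y) = 0 := hy
      simpa [μ] using hy
    have h0 : (μ x ⊗ₜ[A] (1 : B')) * (μ y ⊗ₜ[A] (1 : B')) = 0 := by
      have : μ x * μ y ∈ RingHom.ker π.toRingHom ^ 2 :=
        pow_two (RingHom.ker π.toRingHom) ▸ Ideal.mul_mem_mul hx hy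
      rw [hK, Ideal.mem_bot] at this
      rw [Algebra.TensorProduct.tmul_mul_tmul, this, zero_tmul]
    rw [show x * y = x * (y - μ y ⊗ₜ[A] 1) + (μ y ⊗ₜ[A] 1) * (x - μ x ⊗ₜ[A] 1) +
      (μ x ⊗ₜ[A] 1) * (μ y ⊗ₜ[A] 1) by ring, h0, add_zero]
    exact add_mem (Ideal.mul_mem_mul hx (hl y)) (Ideal.mul_mem_mul hy' (hl x))
  let ε : (B' ⊗[A] B') ⧸ Q →ₐ[A] B :=
    Ideal.Quotient.liftₐ Q (π.comp μ) fun z hz => Ideal.mul_le_left hz
  have hε : Function.Surjective ε := fun b => by
    obtain ⟨b', rfl⟩ := hπ b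
    exact ⟨Ideal.Quotient.mk Q (b' ⊗ₜ 1), congrArg π (by simp [μ])⟩
  have hI : RingHom.ker ε ^ 2 = ⊥ := by
    have : RingHom.ker ε ≤ J.map (Ideal.Quotient.mk Q) := fun z hz => by
      obtain ⟨p, rfl⟩ := Ideal.Quotient.mk_surjective z
      exact Ideal.mem_map_of_mem _ hz
    rw [← le_bot_iff]
    refine (pow_le_pow_left' this 2).trans ?_
    rw [← Ideal.map_pow, Ideal.map_le_iff_le_comap, pow_two]
    intro z hz
    rw [Ideal.mem_comap, Ideal.mem_bot, Ideal.Quotient.eq_zero_iff_mem]
    exact hJJ hz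
  let a : B →ₐ[A] ((B' ⊗[A] B') ⧸ Q) ⧸ RingHom.ker ε :=
    (Ideal.quotientKerAlgEquivOfSurjective hε).symm.toAlgHom
  have hsection : ∀ g : B' →ₐ[A] (B' ⊗[A] B') ⧸ Q, ε.comp g = π →
      (Ideal.Quotient.mkₐ A (RingHom.ker ε)).comp g = a.comp π := by
    intro g hg
    refine AlgHom.ext fun x => ?_
    change Ideal.Quotient.mk _ (g x) = (Ideal.quotientKerAlgEquivOfSurjective hε).symm (π x)
    rw [AlgEquiv.eq_symm_apply]
    exact AlgHom.congr_fun hg x
  have heq := H _ _ hI a
    ((Ideal.Quotient.mkₐ A Q).comp Algebra.TensorProduct.includeRight)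
    ((Ideal.Quotient.mkₐ A Q).comp Algebra.TensorProduct.includeLeft)
    (hsection _ (AlgHom.ext fun x => congrArg π (by simp [μ])))
    (hsection _ (AlgHom.ext fun x => congrArg π (by simp [μ])))
  have hLQ : L ≤ Q := by
    rw [show L = KaehlerDifferential.ideal A B' from rfl,
      ← KaehlerDifferential.span_range_eq_ideal, Ideal.span_le]
    rintro _ ⟨x, rfl⟩
    exact Ideal.Quotient.eq.mp (AlgHom.congr_fun heq x)
  have hidem : L ≤ L ^ 2 := by
    calc L ≤ J * L := hLQ
      _ ≤ J * (J * L) := Ideal.mul_mono_right hLQ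
      _ = J * J * L := (mul_assoc _ _ _).symm
      _ ≤ J * L * L := Ideal.mul_mono_left hJJ
      _ ≤ L * L := Ideal.mul_mono_left (Ideal.mul_le_right (I := J) (J := L))
      _ = L ^ 2 := (pow_two L).symm
  refine ⟨?_⟩
  exact (Ideal.cotangent_subsingleton_iff L).mpr
    ((pow_two L).symm.trans (le_antisymm (Ideal.pow_le_self two_ne_zero) hidem))

theorem formallyUnramified_of_isUniv (π : B' →ₐ[A] B) (h : OmegaSh.IsUnivThickeningRing A B B' π) :
    Algebra.FormallyUnramified A B' :=
  formallyUnramified_of_lift_unique π h.1 h.2.1 fun C _ _ I hI a _ _ h₁ h₂ =>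
    (h.2.2 C I hI a).unique h₁ h₂

/-- A derivation `A → N` into a `B`-module extends to a universal first-order thickening. -/
theorem exists_derivation_of_isUniv {R : Type u} [CommRing R] [Algebra R A] [Algebra R B']
    [IsScalarTower R A B'] (π : B' →ₐ[A] B) (h : OmegaSh.IsUnivThickeningRing A B B' π)
    {N : Type u} [AddCommGroup N] [Module A N] [Module B' N] [IsScalarTower A B' N] [Module R N] [IsScalarTower R A N]
    (hN : ∀ k : B', π k = 0 → ∀ n : N, k • n = 0) (d : Derivation R A N) :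
    ∃ D : Derivation R B' N, ∀ x : A, D (algebraMap A B' x) = d x := by
  let : Module B'ᵐᵒᵖ N := Module.compHom N ((RingHom.id B').fromOpposite mul_comm)
  have : IsCentralScalar B' N := ⟨fun _ _ => rfl⟩
  let φ : A →+* TrivSqZeroExt B' N :=
    { toFun := fun x => (algebraMap A B' x, d x)
      map_one' := TrivSqZeroExt.ext (map_one _) d.map_one_eq_zero
      map_mul' := fun x y => TrivSqZeroExt.ext (map_mul _ x y) (by
        rw [TrivSqZeroExt.snd_mul, op_smul_eq_smul]
        change d (x * y) = algebraMap A B' x • d y + algebraMap A B' y • d x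
        rw [d.leibniz, algebraMap_smul, algebraMap_smul])
      map_zero' := TrivSqZeroExt.ext (map_zero _) (map_zero d)
      map_add' := fun x y => TrivSqZeroExt.ext (map_add _ x y) (map_add d x y) }
  let : Algebra A (TrivSqZeroExt B' N) := φ.toAlgebra
  let p : TrivSqZeroExt B' N →ₐ[A] B' :=
    { toFun := TrivSqZeroExt.fst
      map_one' := rfl
      map_mul' := fun _ _ => rfl
      map_zero' := rfl
      map_add' := fun _ _ => rfl
      commutes' := fun _ => rfl }
  have hp : Function.Surjective (π.comp p) :=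
    h.1.comp fun b => ⟨TrivSqZeroExt.inl b, rfl⟩
  have hI : RingHom.ker (π.comp p) ^ 2 = ⊥ := by
    rw [← le_bot_iff, pow_two, Ideal.mul_le]
    intro x hx y hy
    refine (Submodule.mem_bot _).mpr (TrivSqZeroExt.ext ?_ ?_)
    · have : x.fst * y.fst ∈ RingHom.ker π.toRingHom ^ 2 :=
        pow_two (RingHom.ker π.toRingHom) ▸ Ideal.mul_mem_mul hx hy
      rw [h.2.1, Ideal.mem_bot] at this
      exact this
    · rw [TrivSqZeroExt.snd_mul, op_smul_eq_smul, hN x.fst hx, hN y.fst hy, add_zero]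
      rfl
  let a : B →ₐ[A] TrivSqZeroExt B' N ⧸ RingHom.ker (π.comp p) :=
    (Ideal.quotientKerAlgEquivOfSurjective hp).symm.toAlgHom
  obtain ⟨g, hg, -⟩ := h.2.2 _ _ hI a
  have hpg : π.comp (p.comp g) = π := AlgHom.ext fun x => by
    have := AlgHom.congr_fun hg x
    change Ideal.Quotient.mk _ (g x) = (Ideal.quotientKerAlgEquivOfSurjective hp).symm (π x) at this
    rw [AlgEquiv.eq_symm_apply] at this
    exact this
  have hKI : RingHom.ker π ^ 2 = ⊥ := h.2.1
  let a₀ : B →ₐ[A] B' ⧸ RingHom.ker π :=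
    (Ideal.quotientKerAlgEquivOfSurjective h.1).symm.toAlgHom
  have hid : p.comp g = AlgHom.id A B' := by
    refine (h.2.2 B' _ hKI a₀).unique ?_ ?_ <;> refine AlgHom.ext fun x => ?_
    · change Ideal.Quotient.mk _ (p (g x)) = (Ideal.quotientKerAlgEquivOfSurjective h.1).symm (π x)
      rw [AlgEquiv.eq_symm_apply]
      exact AlgHom.congr_fun hpg x
    · change Ideal.Quotient.mk _ x = (Ideal.quotientKerAlgEquivOfSurjective h.1).symm (π x)
      rw [AlgEquiv.eq_symm_apply]
      rfl
  have hfst : ∀ x, (g x).fst = x := fun x => AlgHom.congr_fun hid x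
  have hA : ∀ x : A, (g (algebraMap A B' x)).snd = d x := fun x => by
    rw [g.commutes]; rfl
  have hmul : ∀ x y, (g (x * y)).snd = x • (g y).snd + y • (g x).snd := fun x y => by
    rw [map_mul, TrivSqZeroExt.snd_mul, op_smul_eq_smul, hfst, hfst]
  let D₀ : B' →ₗ[R] N :=
    { toFun := fun x => (g x).snd
      map_add' := fun x y => by rw [map_add, TrivSqZeroExt.snd_add]
      map_smul' := fun r x => by
        rw [RingHom.id_apply, Algebra.smul_def, IsScalarTower.algebraMap_apply R A B' r, hmul, hA,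
          Derivation.map_algebraMap, smul_zero, add_zero, algebraMap_smul, algebraMap_smul] }
  exact ⟨Derivation.mk' D₀ hmul, hA⟩

end Groth.Agent.Unram
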